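import Groth.Agent.L10.FMBC.Comp
import Groth.Agent.L10.FMDiag.Basic
import Groth.Agent.L29.BC.PerfectPush
import Groth.Agent.L29.RelPC.FlatPull
import Groth.Prelude.Def_DualFM
import Groth.Prelude.Def_SGA6

/-!
Kernels of relative equivalences give equivalences; perfectness of convolutions.
-/

set_option autoImplicit false
set_option linter.style.haveILetI false
set_option backward.defeqAttrib.useBackward true
set_option backward.isDefEq.respectTransparency false
set_option backward.isDefEq.respectTransparency.types false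

universe u

open CategoryTheory CategoryTheory.Limits AlgebraicGeometry

attribute [local instance] HasDerivedCategory.standard

namespace Groth.L10.FMBC

open Groth.L29.BC Groth.L29.DC

theorem lfp_of_noetherian {X S : Scheme.{u}} [IsLocallyNoetherian S] (f : X ⟶ S) [LocallyOfFiniteType f] :
    LocallyOfFinitePresentation f := by
  refine HasRingHomProperty.iff_appLE.2 fun U V e => ?_
  haveI : IsNoetherianRing Γ(S, U) := IsLocallyNoetherian.component_noetherian U
  exact RingHom.FinitePresentation.of_finiteType.1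
    (HasRingHomProperty.appLE (P := @LocallyOfFiniteType) f ‹_› U V e)

/-- a derived pullback along a flat morphism is computed termwise -/
theorem nonempty_pullCx_flat {X Y : Scheme.{u}} (f : X ⟶ Y) [Flat f] [DCoh.HasLpull f]
    (K : CochainComplex Y.Modules ℤ) :
    Nonempty (DCoh.toD X ((FMK.cxPull f).obj K) ≅ (DCoh.Lpull f).obj (DCoh.toD Y K)) := by
  haveI := Groth.L29.RelPC.additive_pullback f
  haveI := Groth.L29.RelPC.preservesFiniteLimits_pullback f
  haveI := Groth.L29.RelPC.preservesFiniteColimits_pullback f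
  obtain ⟨e⟩ := Groth.L29.RelPC.nonempty_Lpull_flat f (DCoh.toD Y K)
  exact ⟨((Scheme.Modules.pullback f).mapDerivedCategoryFactors.app K).symm ≪≫ e.symm⟩

/-- derived tensor product with a perfect complex -/
theorem isPerfect_LT {X : Scheme.{u}} (L : CochainComplex X.Modules ℤ) [DCoh.HasLTensorCx L]
    (hL : DCoh.IsPerfect (DCoh.toD X L)) {E : DCoh.D X} (hE : DCoh.IsPerfect E) :
    DCoh.IsPerfect ((DCoh.LTensorCx L).obj E) := by
  obtain ⟨P, q, hP, -, hq, -⟩ := Groth.L00.KFlat.exists_resolution L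
  haveI := (DerivedCategory.isIso_Q_map_iff_quasiIso _ q).2 hq
  haveI : DCoh.HasLTensorCx P := Groth.L00.KFlat.hasLTensorCx P
  obtain ⟨c⟩ := ProjQC.nonempty_LTensorCx_congr (asIso (DerivedCategory.Q.map q))
  exact isPerfect_of_iso (c.app E)
    (isPerfect_LTensorCx P hP (isPerfect_of_iso (asIso (DerivedCategory.Q.map q)).symm hL) E hE)

variable {S X Y Z : Scheme.{u}} (a : X ⟶ S) (b : Y ⟶ S) (c : Z ⟶ S)

/-- `pr₁₃` is a base change of `X ×_S Y ⟶ X` -/
theorem isPullback_p13 :
    IsPullback (FMK.p12 a b c) (FMK.p13 a b c) (pullback.fst a b) (pullback.fst a c) := by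
  have h := (IsPullback.of_hasPullback (pullback.snd a b) (pullback.fst b c)).paste_vert
    (IsPullback.of_hasPullback b c)
  rw [← pullback.condition (f := a) (g := b), ← FMK.p13_snd] at h
  exact h.of_bot (FMK.p13_fst a b c).symm (IsPullback.of_hasPullback a c)

/-- the outer projection is proper, flat and of finite presentation -/
theorem p13_props [IsProper b] [Flat b] [LocallyOfFinitePresentation b] :
    IsProper (FMK.p13 a b c) ∧ Flat (FMK.p13 a b c) ∧ LocallyOfFinitePresentation (FMK.p13 a b c) :=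
  ⟨MorphismProperty.of_isPullback (isPullback_p13 a b c) inferInstance,
    MorphismProperty.of_isPullback (isPullback_p13 a b c) inferInstance,
    MorphismProperty.of_isPullback (isPullback_p13 a b c) inferInstance⟩

/-- convolutions of perfect kernels are perfect -/
theorem isPerfect_conv [IsProper b] [Flat b] [LocallyOfFinitePresentation b] [Flat a]
    (K : CochainComplex (pullback a b).Modules ℤ) (K' : CochainComplex (pullback b c).Modules ℤ)
    (hK : DCoh.IsPerfect (DCoh.toD _ K)) (hK' : DCoh.IsPerfect (DCoh.toD _ K'))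
    [DCoh.HasLpull (FMK.p12 a b c)] [DCoh.HasLTensorCx ((FMK.cxPull (FMK.p23 a b c)).obj K')]
    [DCoh.HasRpush (FMK.p13 a b c)] :
    DCoh.IsPerfect (FMK.conv a b c K ((FMK.cxPull (FMK.p23 a b c)).obj K')) := by
  obtain ⟨h₁, h₂, h₃⟩ := p13_props a b c
  haveI : Flat (FMK.p23 a b c) := inferInstance
  haveI : DCoh.HasLpull (FMK.p23 a b c) := Groth.L00.KFlat.hasLpull _
  obtain ⟨e⟩ := nonempty_pullCx_flat (FMK.p23 a b c) K'
  exact isPerfect_Rpush (FMK.p13 a b c)
    (isPerfect_LT _ (isPerfect_of_iso e.symm (isPerfect_Lpull _ hK')) (isPerfect_Lpull _ hK))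

/-- kernel functors keep quasi-coherent cohomology -/
theorem isQCohD_phi [QuasiCompact a] [QuasiSeparated a] (K : CochainComplex (pullback a b).Modules ℤ)
    (hK : DCoh.IsQCohD (DCoh.toD _ K))
    [DCoh.HasLpull (pullback.fst a b)] [DCoh.HasLTensorCx K] [DCoh.HasRpush (pullback.snd a b)]
    (E : DCoh.D X) (hE : DCoh.IsQCohD E) : DCoh.IsQCohD ((FMK.phi a b K).obj E) :=
  RpushQC.isQCohD_Rpush (pullback.snd a b) ((DCoh.LTensorCx K).obj ((DCoh.Lpull (pullback.fst a b)).obj E))
    (isQCohD_LTensorCx K hK (isQCohD_Lpull (pullback.fst a b) hE))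

/-- kernel functors keep perfect objects -/
theorem isPerfect_phi [IsProper a] [Flat a] [LocallyOfFinitePresentation a]
    (K : CochainComplex (pullback a b).Modules ℤ) (hK : DCoh.IsPerfect (DCoh.toD _ K))
    [DCoh.HasLpull (pullback.fst a b)] [DCoh.HasLTensorCx K] [DCoh.HasRpush (pullback.snd a b)]
    (E : DCoh.D X) (hE : DCoh.IsPerfect E) : DCoh.IsPerfect ((FMK.phi a b K).obj E) :=
  isPerfect_Rpush (pullback.snd a b) (E := (DCoh.LTensorCx K).obj ((DCoh.Lpull (pullback.fst a b)).obj E))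
    (isPerfect_LT K hK (isPerfect_Lpull (pullback.fst a b) hE))

/-- composition of kernel functors on quasi-coherent objects -/
theorem nonempty_phi_comp [QuasiCompact a] [QuasiSeparated a] [QuasiCompact b] [QuasiSeparated b]
    [QuasiCompact c] [QuasiSeparated c] [Flat a]
    (K : CochainComplex (pullback a b).Modules ℤ) (K' : CochainComplex (pullback b c).Modules ℤ)
    (hK : DCoh.IsQCohD (DCoh.toD _ K)) (hK' : DCoh.IsQCohD (DCoh.toD _ K'))
    [DCoh.HasLpull (pullback.fst a b)] [DCoh.HasLTensorCx K] [DCoh.HasRpush (pullback.snd a b)]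
    [DCoh.HasLpull (pullback.fst b c)] [DCoh.HasLTensorCx K'] [DCoh.HasRpush (pullback.snd b c)]
    [DCoh.HasLpull (FMK.p12 a b c)] [DCoh.HasLTensorCx ((FMK.cxPull (FMK.p23 a b c)).obj K')]
    [DCoh.HasRpush (FMK.p13 a b c)] [DCoh.HasLpull (pullback.fst a c)] [DCoh.HasRpush (pullback.snd a c)]
    (N : CochainComplex (pullback a c).Modules ℤ) [DCoh.HasLTensorCx N]
    (hN : Nonempty (DCoh.toD _ N ≅ FMK.conv a b c K ((FMK.cxPull (FMK.p23 a b c)).obj K'))) :
    Nonempty (ObjectProperty.ι (DCoh.IsQCohD (X := X)) ⋙ FMK.phi a c N ≅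
      ObjectProperty.ι (DCoh.IsQCohD (X := X)) ⋙ FMK.phi a b K ⋙ FMK.phi b c K') := by
  haveI : QuasiCompact (FMK.p13 a b c ≫ pullback.snd a c) := by rw [FMK.p13_snd]; infer_instance
  haveI : QuasiSeparated (FMK.p13 a b c ≫ pullback.snd a c) := by rw [FMK.p13_snd]; infer_instance
  haveI : QuasiCompact (FMK.p13 a b c) := QuasiCompact.of_comp _ (pullback.snd a c)
  haveI : QuasiSeparated (FMK.p13 a b c) := QuasiSeparated.of_comp _ (pullback.snd a c)
  haveI : DCoh.HasLpull (FMK.p23 a b c) := Groth.L00.KFlat.hasLpull _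
  haveI : Flat (pullback.snd a b) := inferInstance
  exact nonempty_kernel_comp (IsPullback.of_hasPullback _ _) (FMK.p13_fst a b c) (FMK.p13_snd a b c)
    (Or.inl inferInstance) K K' hK hK' _ (nonempty_pullCx_flat (FMK.p23 a b c) K') N hN

/-- kernels inverse for convolution give inverse functors on quasi-coherent objects -/
theorem nonempty_phi_comp_id [IsSeparated a] [QuasiCompact a] [QuasiCompact b] [QuasiSeparated b] [Flat a]
    (K : CochainComplex (pullback a b).Modules ℤ) (K' : CochainComplex (pullback b a).Modules ℤ)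
    (hK : DCoh.IsQCohD (DCoh.toD _ K)) (hK' : DCoh.IsQCohD (DCoh.toD _ K'))
    [DCoh.HasLpull (pullback.fst a b)] [DCoh.HasLTensorCx K] [DCoh.HasRpush (pullback.snd a b)]
    [DCoh.HasLpull (pullback.fst b a)] [DCoh.HasLTensorCx K'] [DCoh.HasRpush (pullback.snd b a)]
    [DCoh.HasLpull (FMK.p12 a b a)] [DCoh.HasLTensorCx ((FMK.cxPull (FMK.p23 a b a)).obj K')]
    [DCoh.HasRpush (FMK.p13 a b a)]
    (h : Nonempty (FMK.diagO a ≅ FMK.conv a b a K ((FMK.cxPull (FMK.p23 a b a)).obj K'))) :
    Nonempty (ObjectProperty.ι (DCoh.IsQCohD (X := X)) ⋙ FMK.phi a b K ⋙ FMK.phi b a K' ≅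
      ObjectProperty.ι (DCoh.IsQCohD (X := X))) := by
  obtain ⟨e⟩ := h
  let N := DerivedCategory.Q.objPreimage (FMK.conv a b a K ((FMK.cxPull (FMK.p23 a b a)).obj K'))
  let eN : DCoh.toD _ N ≅ FMK.conv a b a K ((FMK.cxPull (FMK.p23 a b a)).obj K') :=
    DerivedCategory.Q.objObjPreimageIso _
  haveI : DCoh.HasLpull (pullback.fst a a) := Groth.L00.KFlat.hasLpull _
  haveI : DCoh.HasRpush (pullback.snd a a) := RpushQC.hasRpush _
  haveI : DCoh.HasLTensorCx N := Groth.L00.KFlat.hasLTensorCx N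
  obtain ⟨i⟩ := nonempty_phi_comp a b a K K' hK hK' N ⟨eN⟩
  obtain ⟨j⟩ := Groth.L10.FMDiag.nonempty_phi_id (pullback.diagonal a) (pullback.fst a a) (pullback.snd a a)
    (pullback.diagonal_fst a) (pullback.diagonal_snd a) N ⟨eN ≪≫ e.symm⟩
  exact ⟨i.symm ≪≫ Functor.isoWhiskerLeft _ j ≪≫ Functor.rightUnitor _⟩

/-- restricting inverse functors to full subcategories -/
theorem isEquivalence_lift {C D : Type*} [Category C] [Category D] (P : ObjectProperty C) (Q : ObjectProperty D)
    (F : C ⥤ D) (G : D ⥤ C) (hF : ∀ M, P M → Q (F.obj M)) (hG : ∀ N, Q N → P (G.obj N))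
    (η : P.ι ⋙ F ⋙ G ≅ P.ι) (ε : Q.ι ⋙ G ⋙ F ≅ Q.ι) :
    (ObjectProperty.lift Q (P.ι ⋙ F) (fun M => hF M.obj M.property)).IsEquivalence := by
  let F' := ObjectProperty.lift Q (P.ι ⋙ F) (fun M => hF M.obj M.property)
  let G' := ObjectProperty.lift P (Q.ι ⋙ G) (fun M => hG M.obj M.property)
  have u : Nonempty (𝟭 _ ≅ F' ⋙ G') := by
    refine ⟨Functor.fullyFaithfulCancelRight P.ι ?_⟩
    exact Functor.leftUnitor _ ≪≫ η.symm
  have v : Nonempty (G' ⋙ F' ≅ 𝟭 _) := by
    refine ⟨Functor.fullyFaithfulCancelRight Q.ι ?_⟩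
    exact ε ≪≫ (Functor.leftUnitor _).symm
  obtain ⟨u⟩ := u
  obtain ⟨v⟩ := v
  exact (CategoryTheory.Equivalence.mk F' G' u v).isEquivalence_functor

end Groth.L10.FMBC
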