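import Groth.Agent.L10.FMBC.ProjNat
import Groth.Agent.L00.RpushComp

/-!
Composition of kernel functors.
-/

set_option autoImplicit false
set_option linter.style.haveILetI false
set_option backward.defeqAttrib.useBackward true
set_option backward.isDefEq.respectTransparency false
set_option backward.isDefEq.respectTransparency.types false

universe u

open CategoryTheory CategoryTheory.Limits AlgebraicGeometry

attribute [local instance] HasDerivedCategory.standard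

namespace Groth.L10.FMBC

open Groth.L29.BC Groth.L29.DC

/-- `(- ⊗^L A) ⊗^L B ≅ - ⊗^L (A ⊗ B)` -/
theorem nonempty_assocD {X : Scheme.{u}} (A B : CochainComplex X.Modules ℤ) (hA : DCoh.IsKFlat A)
    (hB : DCoh.IsKFlat B) [DCoh.HasLTensorCx A] [DCoh.HasLTensorCx B]
    [DCoh.HasLTensorCx ((DCoh.tensorCx.obj A).obj B)] :
    Nonempty (DCoh.LTensorCx A ⋙ DCoh.LTensorCx B ≅ DCoh.LTensorCx ((DCoh.tensorCx.obj A).obj B)) := by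
  let TA := (DCoh.tensorCx (X := X)).flip.obj A
  let TB := (DCoh.tensorCx (X := X)).flip.obj B
  let e : DerivedCategory.Q ⋙ DCoh.LTensorCx A ⋙ DCoh.LTensorCx B ≅
      DerivedCategory.Q ⋙ DCoh.LTensorCx ((DCoh.tensorCx.obj A).obj B) :=
    (Functor.associator _ _ _).symm ≪≫ Functor.isoWhiskerRight (Assoc.allIso A hA) _ ≪≫
      Functor.associator _ _ _ ≪≫ Functor.isoWhiskerLeft TA (Assoc.allIso B hB) ≪≫
      (Functor.associator _ _ _).symm ≪≫ Functor.isoWhiskerRight (Assoc.assocFunctor A B) _ ≪≫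
      (Assoc.allIso _ (PullTensor.isKFlat_tensor hA hB)).symm
  exact ⟨Localization.liftNatIso DerivedCategory.Q
    (HomologicalComplex.quasiIso X.Modules (ComplexShape.up ℤ)) _ _ _ _ e⟩

theorem nonempty_rpush_comp' {T B Z : Scheme.{u}} (f : T ⟶ B) (g : B ⟶ Z) {k : T ⟶ Z} (h : f ≫ g = k)
    [DCoh.HasRpush f] [DCoh.HasRpush g] [DCoh.HasRpush k] :
    Nonempty (DCoh.Rpush f ⋙ DCoh.Rpush g ≅ DCoh.Rpush k) := by
  subst h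
  exact Groth.L00.RpushComp.rpush_comp f g

theorem nonempty_lpull_comp' {T B Z : Scheme.{u}} (f : T ⟶ B) (g : B ⟶ Z) {k : T ⟶ Z} (h : f ≫ g = k)
    [DCoh.HasLpull f] [DCoh.HasLpull g] [DCoh.HasLpull k] :
    Nonempty (DCoh.Lpull g ⋙ DCoh.Lpull f ≅ DCoh.Lpull k) := by
  subst h
  exact Groth.L00.DerivedApi.lpull_comp f g

variable {X Y Z A B C T : Scheme.{u}} {k₁ : A ⟶ X} {k₂ : A ⟶ Y} {s₁ : B ⟶ Y} {s₂ : B ⟶ Z} {r₁ : C ⟶ X}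
  {r₂ : C ⟶ Z} {p₁₂ : T ⟶ A} {p₂₃ : T ⟶ B} {p₁₃ : T ⟶ C}

set_option maxHeartbeats 800000 in
/-- the kernel of a composite is the convolution -/
theorem nonempty_kernel_comp (hc : IsPullback p₁₂ p₂₃ k₂ s₁) (e₁ : p₁₃ ≫ r₁ = p₁₂ ≫ k₁)
    (e₂ : p₁₃ ≫ r₂ = p₂₃ ≫ s₂) [QuasiCompact k₂] [QuasiSeparated k₂] [QuasiCompact p₁₃] [QuasiSeparated p₁₃]
    (hflat : Flat k₂ ∨ Flat s₁)
    (K : CochainComplex A.Modules ℤ) (M : CochainComplex B.Modules ℤ)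
    (hK : DCoh.IsQCohD (DCoh.toD _ K)) (hM : DCoh.IsQCohD (DCoh.toD _ M))
    [DCoh.HasLpull k₁] [DCoh.HasLTensorCx K] [DCoh.HasRpush k₂]
    [DCoh.HasLpull s₁] [DCoh.HasLTensorCx M] [DCoh.HasRpush s₂]
    [DCoh.HasLpull p₁₂] [DCoh.HasLpull p₂₃] [DCoh.HasRpush p₁₃] [DCoh.HasLpull r₁] [DCoh.HasRpush r₂]
    (L : CochainComplex T.Modules ℤ) [DCoh.HasLTensorCx L]
    (hL : Nonempty (DCoh.toD _ L ≅ (DCoh.Lpull p₂₃).obj (DCoh.toD _ M)))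
    (N : CochainComplex C.Modules ℤ) [DCoh.HasLTensorCx N]
    (hN : Nonempty (DCoh.toD _ N ≅
      (DCoh.Rpush p₁₃).obj ((DCoh.LTensorCx L).obj ((DCoh.Lpull p₁₂).obj (DCoh.toD _ K))))) :
    Nonempty (ObjectProperty.ι (DCoh.IsQCohD (X := X)) ⋙ (DCoh.Lpull r₁ ⋙ DCoh.LTensorCx N ⋙ DCoh.Rpush r₂) ≅
      ObjectProperty.ι (DCoh.IsQCohD (X := X)) ⋙ (DCoh.Lpull k₁ ⋙ DCoh.LTensorCx K ⋙ DCoh.Rpush k₂) ⋙
        (DCoh.Lpull s₁ ⋙ DCoh.LTensorCx M ⋙ DCoh.Rpush s₂)) := by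
  haveI := fun {A B : Scheme.{u}} (k : A ⟶ B) => RpushQC.hasRpush k
  haveI := fun {A B : Scheme.{u}} (k : A ⟶ B) => Groth.L00.KFlat.hasLpull k
  haveI : QuasiCompact p₂₃ := MorphismProperty.of_isPullback hc inferInstance
  haveI : QuasiSeparated p₂₃ := MorphismProperty.of_isPullback hc inferInstance
  haveI := fun {V : Scheme.{u}} (E : CochainComplex V.Modules ℤ) => Groth.L00.KFlat.hasLTensorCx E
  obtain ⟨PK, qK, hPK, -, hqK, -⟩ := Groth.L00.KFlat.exists_resolution K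
  haveI := (DerivedCategory.isIso_Q_map_iff_quasiIso _ qK).2 hqK
  obtain ⟨PM, qM, hPM, -, hqM, -⟩ := Groth.L00.KFlat.exists_resolution M
  haveI := (DerivedCategory.isIso_Q_map_iff_quasiIso _ qM).2 hqM
  let eK : DerivedCategory.Q.obj PK ≅ DerivedCategory.Q.obj K := asIso (DerivedCategory.Q.map qK)
  let eM : DerivedCategory.Q.obj PM ≅ DerivedCategory.Q.obj M := asIso (DerivedCategory.Q.map qM)
  obtain ⟨cK⟩ := ProjQC.nonempty_LTensorCx_congr eK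
  obtain ⟨cM⟩ := ProjQC.nonempty_LTensorCx_congr eM
  obtain ⟨eL⟩ := hL
  obtain ⟨eN⟩ := hN
  let A' := (Proj.pullCx p₁₂).obj PK
  let B' := (Proj.pullCx p₂₃).obj PM
  let W := (DCoh.tensorCx.obj A').obj B'
  have hA' : DCoh.IsKFlat A' := Groth.L00.KFlat.pullback_kflat p₁₂ PK hPK
  have hB' : DCoh.IsKFlat B' := Groth.L00.KFlat.pullback_kflat p₂₃ PM hPM
  let eA : DerivedCategory.Q.obj A' ≅ (DCoh.Lpull p₁₂).obj (DCoh.toD _ K) :=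
    (Groth.L00.DerivedApi.objIso (Groth.L00.DerivedApi.acyclicKFlat_pullback p₁₂) PK hPK).symm ≪≫
      (DCoh.Lpull p₁₂).mapIso eK
  let eB : DerivedCategory.Q.obj B' ≅ (DCoh.Lpull p₂₃).obj (DCoh.toD _ M) :=
    (Groth.L00.DerivedApi.objIso (Groth.L00.DerivedApi.acyclicKFlat_pullback p₂₃) PM hPM).symm ≪≫
      (DCoh.Lpull p₂₃).mapIso eM
  obtain ⟨cL⟩ := ProjQC.nonempty_LTensorCx_congr (eL ≪≫ eB.symm)
  let eW : DerivedCategory.Q.obj W ≅ (DCoh.LTensorCx L).obj ((DCoh.Lpull p₁₂).obj (DCoh.toD _ K)) :=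
    ((Assoc.allIso B' hB').app A').symm ≪≫ cL.symm.app _ ≪≫ (DCoh.LTensorCx L).mapIso eA
  obtain ⟨I, i, hI, hi⟩ := ProjFormulaD.exists_kinj W
  haveI := hI
  haveI := (DerivedCategory.isIso_Q_map_iff_quasiIso _ i).2 hi
  let eI : DerivedCategory.Q.obj W ≅ DerivedCategory.Q.obj I := asIso (DerivedCategory.Q.map i)
  have hIq : DCoh.IsQCohD (DerivedCategory.Q.obj I) :=
    isQCohD_of_iso (eW.symm ≪≫ eI) (isQCohD_LTensorCx L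
      (isQCohD_of_iso eL.symm (isQCohD_Lpull p₂₃ hM)) (isQCohD_Lpull p₁₂ hK))
  obtain ⟨cW⟩ := ProjQC.nonempty_LTensorCx_congr eI
  let N' := (Proj.pushCx p₁₃).obj I
  haveI := SupportAdj.isIso_pushComp p₁₃ I
  obtain ⟨cN⟩ := ProjQC.nonempty_LTensorCx_congr (eN ≪≫ (DCoh.Rpush p₁₃).mapIso (eW.symm ≪≫ eI) ≪≫
    (asIso (SupportAdj.pushComp p₁₃ I)).symm)
  -- left-hand side
  obtain ⟨τ, -, hτ⟩ := PFNat.exists_pf p₁₃ I (𝟙 N') hIq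
  let S := ObjectProperty.ι (DCoh.IsQCohD (X := X)) ⋙ DCoh.Lpull r₁
  haveI : ∀ E, IsIso ((Functor.whiskerLeft S τ).app E) := fun E => hτ _ (isQCohD_Lpull r₁ E.property)
  haveI := NatIso.isIso_of_isIso_app (Functor.whiskerLeft S τ)
  obtain ⟨l₁⟩ := nonempty_lpull_comp' p₁₃ r₁ e₁
  obtain ⟨l₂⟩ := nonempty_lpull_comp' p₁₂ k₁ rfl
  obtain ⟨R₁⟩ := nonempty_rpush_comp' p₁₃ r₂ e₂
  obtain ⟨R₂⟩ := nonempty_rpush_comp' p₂₃ s₂ rfl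
  obtain ⟨t⟩ := nonempty_pullTensorD p₁₂ PK hPK
  obtain ⟨as⟩ := nonempty_assocD A' B' hA' hB'
  -- right-hand side
  let U := ObjectProperty.ι (DCoh.IsQCohD (X := X)) ⋙ DCoh.Lpull k₁ ⋙ DCoh.LTensorCx K
  have hU : ∀ E, DCoh.IsQCohD (U.obj E) := fun E => isQCohD_LTensorCx K hK (isQCohD_Lpull k₁ E.property)
  have hbc : BC hc.w := bc_of_flat_or hc hflat
  haveI : ∀ E, IsIso ((Functor.whiskerLeft U (βNat hc.w)).app E) := fun E => hbc _ (hU E)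
  haveI := NatIso.isIso_of_isIso_app (Functor.whiskerLeft U (βNat hc.w))
  obtain ⟨π, hπ⟩ := exists_projection p₂₃ PM hPM (isQCohD_of_iso eM.symm hM)
  haveI : ∀ E, IsIso ((Functor.whiskerLeft (U ⋙ DCoh.Lpull p₁₂) π).app E) := fun E =>
    hπ _ (isQCohD_Lpull p₁₂ (hU E))
  haveI := NatIso.isIso_of_isIso_app (Functor.whiskerLeft (U ⋙ DCoh.Lpull p₁₂) π)
  let ι := ObjectProperty.ι (DCoh.IsQCohD (X := X))
  let LHS : ι ⋙ (DCoh.Lpull r₁ ⋙ DCoh.LTensorCx N ⋙ DCoh.Rpush r₂) ≅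
      ι ⋙ DCoh.Lpull (p₁₂ ≫ k₁) ⋙ DCoh.LTensorCx W ⋙ DCoh.Rpush (p₂₃ ≫ s₂) :=
    Functor.isoWhiskerLeft S (Functor.isoWhiskerRight cN (DCoh.Rpush r₂)) ≪≫
      Functor.isoWhiskerRight (asIso (Functor.whiskerLeft S τ)) (DCoh.Rpush r₂) ≪≫
      Functor.isoWhiskerLeft ι (Functor.isoWhiskerRight l₁
        (DCoh.LTensorCx I ⋙ DCoh.Rpush p₁₃ ⋙ DCoh.Rpush r₂)) ≪≫
      Functor.isoWhiskerLeft (ι ⋙ DCoh.Lpull (p₁₂ ≫ k₁))
        (Functor.isoWhiskerRight cW.symm (DCoh.Rpush p₁₃ ⋙ DCoh.Rpush r₂) ≪≫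
          Functor.isoWhiskerLeft (DCoh.LTensorCx W) R₁)
  let RHS : ι ⋙ (DCoh.Lpull k₁ ⋙ DCoh.LTensorCx K ⋙ DCoh.Rpush k₂) ⋙
      (DCoh.Lpull s₁ ⋙ DCoh.LTensorCx M ⋙ DCoh.Rpush s₂) ≅
      ι ⋙ DCoh.Lpull (p₁₂ ≫ k₁) ⋙ DCoh.LTensorCx W ⋙ DCoh.Rpush (p₂₃ ≫ s₂) :=
    Functor.isoWhiskerRight (asIso (Functor.whiskerLeft U (βNat hc.w))) (DCoh.LTensorCx M ⋙ DCoh.Rpush s₂) ≪≫
      Functor.isoWhiskerLeft (U ⋙ DCoh.Lpull p₁₂ ⋙ DCoh.Rpush p₂₃) (Functor.isoWhiskerRight cM.symm (DCoh.Rpush s₂)) ≪≫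
      Functor.isoWhiskerRight (asIso (Functor.whiskerLeft (U ⋙ DCoh.Lpull p₁₂) π)) (DCoh.Rpush s₂) ≪≫
      Functor.isoWhiskerLeft (ι ⋙ DCoh.Lpull k₁)
        (Functor.isoWhiskerRight (Functor.isoWhiskerRight cK.symm (DCoh.Lpull p₁₂) ≪≫ t)
          (DCoh.LTensorCx B' ⋙ DCoh.Rpush p₂₃ ⋙ DCoh.Rpush s₂)) ≪≫
      Functor.isoWhiskerLeft ι (Functor.isoWhiskerRight l₂
        (DCoh.LTensorCx A' ⋙ DCoh.LTensorCx B' ⋙ DCoh.Rpush p₂₃ ⋙ DCoh.Rpush s₂)) ≪≫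
      Functor.isoWhiskerLeft (ι ⋙ DCoh.Lpull (p₁₂ ≫ k₁))
        (Functor.isoWhiskerRight as (DCoh.Rpush p₂₃ ⋙ DCoh.Rpush s₂) ≪≫
          Functor.isoWhiskerLeft (DCoh.LTensorCx W) R₂)
  exact ⟨LHS ≪≫ RHS.symm⟩

end Groth.L10.FMBC
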