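import Groth.Agent.L10.FMBC.Point
import Groth.Agent.L10.FMBC.Comp
import Groth.Agent.L18.AmplePull
import Groth.Agent.L18.GenLocus

/-!
Kernel functors given by invertible modules.
-/

set_option autoImplicit false
set_option linter.style.haveILetI false
set_option backward.defeqAttrib.useBackward true
set_option backward.isDefEq.respectTransparency false
set_option backward.isDefEq.respectTransparency.types false

universe u

open CategoryTheory CategoryTheory.Limits AlgebraicGeometry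

attribute [local instance] HasDerivedCategory.standard

namespace Groth.L10.FMBC

open Groth.L29.BC Groth.L29.DC

variable {X Y : Scheme.{u}}

theorem isFlat_of_invertible {L : X.Modules} (h : PicF.IsInvertible L) : FlatMod.IsFlat L :=
  isFlat_of_isFinLocFree (isFinLocFree_of_invertible h)

theorem isKFlat_S0 {L : X.Modules} (h : PicF.IsInvertible L) : DCoh.IsKFlat (Groth.Lead.LTMod.S0 L) :=
  Groth.L00.KFlat.single _ (isFlat_of_invertible h) 0

theorem isQCohD_S0 {L : X.Modules} (h : PicF.IsInvertible L) :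
    DCoh.IsQCohD (DCoh.toD X (Groth.Lead.LTMod.S0 L)) :=
  isQCohD_of_iso ((DerivedCategory.singleFunctorIsoCompQ X.Modules 0).app L)
    (Groth.Lead.LTMod.isQCohD_inD_of (PCQCoh.isQCoh_of_isFinLocFree (isFinLocFree_of_invertible h)))

/-- the tensor product of modules in degree zero -/
theorem nonempty_singleTensor (A B : X.Modules) :
    Nonempty ((DCoh.tensorCx.obj (Groth.Lead.LTMod.S0 A)).obj (Groth.Lead.LTMod.S0 B) ≅
      Groth.Lead.LTMod.S0 (CohB1.tensorMod A B)) :=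
  ⟨(Groth.L00.SingleTotal.iso (DCoh.tensorBi (X := X)) A (Groth.Lead.LTMod.S0 B)).symm ≪≫
    (HomologicalComplex.singleMapHomologicalComplex ((DCoh.tensorBi (X := X)).obj A) (ComplexShape.up ℤ) 0).app B⟩

theorem nonempty_ltm_congr {A B : X.Modules} (e : A ≅ B) [DCoh.HasLTensorMod A] [DCoh.HasLTensorMod B] :
    Nonempty (DCoh.LTensorMod A ≅ DCoh.LTensorMod B) := by
  haveI := fun (E : CochainComplex X.Modules ℤ) => Groth.L00.KFlat.hasLTensorCx E
  obtain ⟨c⟩ := ProjQC.nonempty_LTensorCx_congr (A := Groth.Lead.LTMod.S0 A) (B := Groth.Lead.LTMod.S0 B)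
    (DerivedCategory.Q.mapIso ((HomologicalComplex.single X.Modules (ComplexShape.up ℤ) 0).mapIso e))
  exact ⟨Groth.Lead.LTMod.iso A ≪≫ c ≪≫ (Groth.Lead.LTMod.iso B).symm⟩

/-- tensoring twice by invertible modules -/
theorem nonempty_assocMod {A B : X.Modules} (hA : PicF.IsInvertible A) (hB : PicF.IsInvertible B)
    [DCoh.HasLTensorMod A] [DCoh.HasLTensorMod B] [DCoh.HasLTensorMod (CohB1.tensorMod A B)] :
    Nonempty (DCoh.LTensorMod A ⋙ DCoh.LTensorMod B ≅ DCoh.LTensorMod (CohB1.tensorMod A B)) := by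
  haveI := fun (E : CochainComplex X.Modules ℤ) => Groth.L00.KFlat.hasLTensorCx E
  obtain ⟨a⟩ := nonempty_assocD _ _ (isKFlat_S0 hA) (isKFlat_S0 hB)
  obtain ⟨s⟩ := nonempty_singleTensor A B
  obtain ⟨c⟩ := ProjQC.nonempty_LTensorCx_congr (DerivedCategory.Q.mapIso s)
  exact ⟨Functor.isoWhiskerRight (Groth.Lead.LTMod.iso A) _ ≪≫
    Functor.isoWhiskerLeft _ (Groth.Lead.LTMod.iso B) ≪≫ a ≪≫ c ≪≫ (Groth.Lead.LTMod.iso _).symm⟩

theorem nonempty_S0_pull (f : X ⟶ Y) {L : Y.Modules} (hL : PicF.IsInvertible L) [DCoh.HasLpull f]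
    {L' : X.Modules} (e : L' ≅ (Scheme.Modules.pullback f).obj L) :
    Nonempty (DCoh.toD X (Groth.Lead.LTMod.S0 L') ≅ (DCoh.Lpull f).obj (DCoh.toD Y (Groth.Lead.LTMod.S0 L))) := by
  haveI := Groth.L29.RelPC.additive_pullback f
  exact ⟨DerivedCategory.Q.mapIso ((HomologicalComplex.single X.Modules (ComplexShape.up ℤ) 0).mapIso e ≪≫
      ((HomologicalComplex.singleMapHomologicalComplex (Scheme.Modules.pullback f) (ComplexShape.up ℤ) 0).app L).symm) ≪≫
    (Groth.L00.DerivedApi.objIso (Groth.L00.DerivedApi.acyclicKFlat_pullback f) _ (isKFlat_S0 hL)).symm⟩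

/-- derived pullback of a tensor product with an invertible module -/
theorem nonempty_lpull_mod (f : X ⟶ Y) [DCoh.HasLpull f] {L : Y.Modules} (hL : PicF.IsInvertible L)
    [DCoh.HasLTensorMod L] [DCoh.HasLTensorMod ((Scheme.Modules.pullback f).obj L)] :
    Nonempty (DCoh.LTensorMod L ⋙ DCoh.Lpull f ≅
      DCoh.Lpull f ⋙ DCoh.LTensorMod ((Scheme.Modules.pullback f).obj L)) := by
  haveI := fun {V : Scheme.{u}} (E : CochainComplex V.Modules ℤ) => Groth.L00.KFlat.hasLTensorCx E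
  haveI := Groth.L29.RelPC.additive_pullback f
  obtain ⟨t⟩ := nonempty_pullTensorD f _ (isKFlat_S0 hL)
  obtain ⟨c⟩ := ProjQC.nonempty_LTensorCx_congr (A := (Proj.pullCx f).obj (Groth.Lead.LTMod.S0 L))
    (B := Groth.Lead.LTMod.S0 ((Scheme.Modules.pullback f).obj L))
    (DerivedCategory.Q.mapIso ((HomologicalComplex.singleMapHomologicalComplex (Scheme.Modules.pullback f)
      (ComplexShape.up ℤ) 0).app L))
  exact ⟨Functor.isoWhiskerRight (Groth.Lead.LTMod.iso L) _ ≪≫ t ≪≫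
    Functor.isoWhiskerLeft _ (c ≪≫ (Groth.Lead.LTMod.iso _).symm)⟩

set_option maxHeartbeats 800000 in
/-- base change of a kernel functor given by an invertible module -/
theorem nonempty_pull_kernelMod {A A' X' Y' : Scheme.{u}} {π : X' ⟶ X} {p₁ : A ⟶ X} {p₂ : A ⟶ Y}
    {q₁ : A' ⟶ X'} {q₂ : A' ⟶ Y'} {h : A' ⟶ A} {ϖ : Y' ⟶ Y} (w₁ : q₁ ≫ π = h ≫ p₁)
    (hc : IsPullback h q₂ p₂ ϖ) [QuasiCompact p₂] [QuasiSeparated p₂] [Flat p₂]
    (P : A.Modules) (hP : PicF.IsInvertible P) (P' : A'.Modules) (hP' : Nonempty (P' ≅ (Scheme.Modules.pullback h).obj P))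
    [DCoh.HasLpull p₁] [DCoh.HasLTensorMod P] [DCoh.HasRpush p₂] [DCoh.HasLpull π] [DCoh.HasLpull ϖ]
    [DCoh.HasLpull q₁] [DCoh.HasLTensorMod P'] [DCoh.HasRpush q₂] :
    Nonempty (ObjectProperty.ι (DCoh.IsQCohD (X := X)) ⋙ DCoh.Lpull π ⋙
        DCoh.Lpull q₁ ⋙ DCoh.LTensorMod P' ⋙ DCoh.Rpush q₂ ≅
      ObjectProperty.ι (DCoh.IsQCohD (X := X)) ⋙
        (DCoh.Lpull p₁ ⋙ DCoh.LTensorMod P ⋙ DCoh.Rpush p₂) ⋙ DCoh.Lpull ϖ) := by
  haveI := fun {V : Scheme.{u}} (E : CochainComplex V.Modules ℤ) => Groth.L00.KFlat.hasLTensorCx E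
  haveI : DCoh.HasLpull h := Groth.L00.KFlat.hasLpull _
  obtain ⟨i⟩ := nonempty_pull_kernel w₁ hc (Or.inl inferInstance) (Groth.Lead.LTMod.S0 P) (isQCohD_S0 hP)
    (Groth.Lead.LTMod.S0 P') (nonempty_S0_pull h hP hP'.some)
  let ι := ObjectProperty.ι (DCoh.IsQCohD (X := X))
  exact ⟨Functor.isoWhiskerLeft (ι ⋙ DCoh.Lpull π ⋙ DCoh.Lpull q₁)
      (Functor.isoWhiskerRight (Groth.Lead.LTMod.iso P') (DCoh.Rpush q₂)) ≪≫ i ≪≫
    Functor.isoWhiskerLeft (ι ⋙ DCoh.Lpull p₁)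
      (Functor.isoWhiskerRight (Groth.Lead.LTMod.iso P).symm (DCoh.Rpush p₂ ⋙ DCoh.Lpull ϖ))⟩

/-- the projection formula for an invertible module -/
theorem exists_projectionMod (f : X ⟶ Y) [QuasiCompact f] [QuasiSeparated f] [DCoh.HasRpush f]
    {N : Y.Modules} (hN : PicF.IsInvertible N) [DCoh.HasLTensorMod N]
    [DCoh.HasLTensorMod ((Scheme.Modules.pullback f).obj N)] :
    ∃ τ : DCoh.Rpush f ⋙ DCoh.LTensorMod N ⟶ DCoh.LTensorMod ((Scheme.Modules.pullback f).obj N) ⋙ DCoh.Rpush f,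
      ∀ E : DCoh.D X, DCoh.IsQCohD E → IsIso (τ.app E) := by
  haveI := fun {V : Scheme.{u}} (E : CochainComplex V.Modules ℤ) => Groth.L00.KFlat.hasLTensorCx E
  haveI := Groth.L29.RelPC.additive_pullback f
  obtain ⟨π, hπ⟩ := exists_projection f _ (isKFlat_S0 hN) (isQCohD_S0 hN)
  obtain ⟨c⟩ := ProjQC.nonempty_LTensorCx_congr (A := (Proj.pullCx f).obj (Groth.Lead.LTMod.S0 N))
    (B := Groth.Lead.LTMod.S0 ((Scheme.Modules.pullback f).obj N))
    (DerivedCategory.Q.mapIso ((HomologicalComplex.singleMapHomologicalComplex (Scheme.Modules.pullback f)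
      (ComplexShape.up ℤ) 0).app N))
  let a := Functor.isoWhiskerLeft (DCoh.Rpush f) (Groth.Lead.LTMod.iso N)
  let b := Functor.isoWhiskerRight (c ≪≫ (Groth.Lead.LTMod.iso _).symm) (DCoh.Rpush f)
  refine ⟨a.hom ≫ π ≫ b.hom, fun E hE => ?_⟩
  haveI := hπ E hE
  simp only [NatTrans.comp_app]
  infer_instance

theorem isQCohD_ltm {L : X.Modules} (hL : PicF.IsInvertible L) [DCoh.HasLTensorMod L] {E : DCoh.D X}
    (hE : DCoh.IsQCohD E) : DCoh.IsQCohD ((DCoh.LTensorMod L).obj E) := by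
  haveI := Groth.L00.KFlat.hasLTensorCx (Groth.Lead.LTMod.S0 L)
  exact isQCohD_of_iso ((Groth.Lead.LTMod.iso L).app E).symm (isQCohD_LTensorCx _ (isQCohD_S0 hL) hE)

end Groth.L10.FMBC
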