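import Groth.Agent.L29.BC.PFNat
import Groth.Agent.L29.BC.TorGlobal
import Groth.Agent.L29.BC.Closure
import Groth.Agent.L29.DCoh.PullTensor
import Groth.Agent.L29.DCoh.QCohTensor
import Groth.Agent.L29.DCoh.RpushQCoh
import Groth.Agent.L00.LComp
import Groth.Agent.S3527

/-!
Derived pullback commutes with derived tensor products, naturally; base change of kernel functors.
-/

set_option autoImplicit false
set_option linter.style.haveILetI false
set_option backward.defeqAttrib.useBackward true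
set_option backward.isDefEq.respectTransparency false
set_option backward.isDefEq.respectTransparency.types false

universe u

open CategoryTheory CategoryTheory.Limits AlgebraicGeometry

attribute [local instance] HasDerivedCategory.standard

namespace Groth.L10.FMBC

open Groth.L29.BC Groth.L29.DC

variable {X Y : Scheme.{u}}

/-- gluing comparisons on good objects -/
theorem exists_comparison {A B DA DB : Type*} [Category A] [Category B] [Category DA] [Category DB]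
    (QA : A ⥤ DA) (QB : B ⥤ DB) (T : A ⥤ A) (T' : B ⥤ B) (F : A ⥤ B) (L : DA ⥤ DB) (M : DA ⥤ DA) (M' : DB ⥤ DB)
    (a : QA ⋙ M ≅ T ⋙ QA) (a' : QB ⋙ M' ≅ T' ⋙ QB) (pt : F ⋙ T' ≅ T ⋙ F) (good : A → Prop)
    (hT : ∀ x, good x → good (T.obj x))
    (o : ∀ x, good x → (L.obj (QA.obj x) ≅ QB.obj (F.obj x)))
    (ho : ∀ {x y : A} (hx : good x) (hy : good y) (m : x ⟶ y),
      L.map (QA.map m) ≫ (o y hy).hom = (o x hx).hom ≫ QB.map (F.map m)) :
    ∃ c : ∀ x, good x → ((M ⋙ L).obj (QA.obj x) ≅ (L ⋙ M').obj (QA.obj x)),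
      ∀ {x y : A} (hx : good x) (hy : good y) (m : x ⟶ y),
        (M ⋙ L).map (QA.map m) ≫ (c y hy).hom = (c x hx).hom ≫ (L ⋙ M').map (QA.map m) := by
  refine ⟨fun x hx => L.mapIso (a.app x) ≪≫ o (T.obj x) (hT x hx) ≪≫ QB.mapIso (pt.app x).symm ≪≫
    (a'.app (F.obj x)).symm ≪≫ M'.mapIso (o x hx).symm, fun {x y} hx hy m => ?_⟩
  have h1 : L.map (M.map (QA.map m)) ≫ L.map (a.hom.app y) = L.map (a.hom.app x) ≫ L.map (QA.map (T.map m)) :=
    (L.map_comp _ _).symm.trans ((congrArg L.map (a.hom.naturality m)).trans (L.map_comp _ _))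
  have h2 : QB.map (F.map (T.map m)) ≫ QB.map (pt.inv.app y) = QB.map (pt.inv.app x) ≫ QB.map (T'.map (F.map m)) :=
    (QB.map_comp _ _).symm.trans ((congrArg QB.map (pt.inv.naturality m)).trans (QB.map_comp _ _))
  have h3 : QB.map (T'.map (F.map m)) ≫ a'.inv.app (F.obj y) = a'.inv.app (F.obj x) ≫ M'.map (QB.map (F.map m)) :=
    a'.inv.naturality (F.map m)
  have h4 : QB.map (F.map m) ≫ (o y hy).inv = (o x hx).inv ≫ L.map (QA.map m) := by
    rw [Iso.eq_inv_comp, ← Category.assoc, ← ho hx hy m, Category.assoc, Iso.hom_inv_id, Category.comp_id]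
  simp only [Iso.trans_hom, Functor.mapIso_hom, Iso.app_hom, Iso.symm_hom, Iso.app_inv, Functor.comp_map, Category.assoc]
  rw [reassoc_of% h1, reassoc_of% (ho (hT x hx) (hT y hy) (T.map m)), reassoc_of% h2, reassoc_of% h3, ← M'.map_comp,
    h4, M'.map_comp]

set_option maxHeartbeats 800000 in
/-- `Lf^*(- ⊗^L P) ≅ Lf^*(-) ⊗^L f^*P` for `P` K-flat, naturally -/
theorem nonempty_pullTensorD (f : X ⟶ Y) [DCoh.HasLpull f] (L : CochainComplex Y.Modules ℤ) (hL : DCoh.IsKFlat L)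
    [DCoh.HasLTensorCx L] [DCoh.HasLTensorCx ((Proj.pullCx f).obj L)] :
    Nonempty (DCoh.LTensorCx L ⋙ DCoh.Lpull f ≅ DCoh.Lpull f ⋙ DCoh.LTensorCx ((Proj.pullCx f).obj L)) := by
  haveI : (Scheme.Modules.pullback f).Additive :=
    (Scheme.Modules.pullbackPushforwardAdjunction f).left_adjoint_additive
  obtain ⟨o, ho⟩ : ∃ o : ∀ (P : CochainComplex Y.Modules ℤ), DCoh.IsKFlat P →
      ((DCoh.Lpull f).obj (DerivedCategory.Q.obj P) ≅ DerivedCategory.Q.obj ((Proj.pullCx f).obj P)),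
      ∀ {P P' : CochainComplex Y.Modules ℤ} (hP : DCoh.IsKFlat P) (hP' : DCoh.IsKFlat P') (m : P ⟶ P'),
        (DCoh.Lpull f).map (DerivedCategory.Q.map m) ≫ (o P' hP').hom =
          (o P hP).hom ≫ DerivedCategory.Q.map ((Proj.pullCx f).map m) :=
    ⟨fun P hP => Groth.L00.DerivedApi.objIso (Groth.L00.DerivedApi.acyclicKFlat_pullback f) P hP,
      fun hP hP' m => PFNat.objIso_natural f hP hP' m⟩
  obtain ⟨c, hc⟩ := exists_comparison DerivedCategory.Q DerivedCategory.Q ((DCoh.tensorCx (X := Y)).flip.obj L)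
    ((DCoh.tensorCx (X := X)).flip.obj ((Proj.pullCx f).obj L)) (Proj.pullCx f) (DCoh.Lpull f) (DCoh.LTensorCx L)
    (DCoh.LTensorCx ((Proj.pullCx f).obj L)) (Assoc.allIso L hL)
    (Assoc.allIso ((Proj.pullCx f).obj L) (Groth.L00.KFlat.pullback_kflat f L hL))
    (PullTensor.pullTensorFunctor f L) DCoh.IsKFlat
    (fun P hP => (PullTensor.isKFlat_tensor (P := P) (L := L) hP hL : DCoh.IsKFlat ((DCoh.tensorCx.obj P).obj L)))
    o ho
  obtain ⟨τ, hτ⟩ := PFNat.exists_natTrans (DCoh.LTensorCx L ⋙ DCoh.Lpull f)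
    (DCoh.Lpull f ⋙ DCoh.LTensorCx ((Proj.pullCx f).obj L)) (fun P hP => (c P hP).hom) hc
  haveI : ∀ K, IsIso (τ.app K) := fun K => by
    obtain ⟨P, q, hP, -, hq, -⟩ := Groth.L00.KFlat.exists_resolution (DerivedCategory.Q.objPreimage K)
    haveI := (DerivedCategory.isIso_Q_map_iff_quasiIso _ q).2 hq
    refine (NatTrans.isIso_app_iff_of_iso τ
      (asIso (DerivedCategory.Q.map q) ≪≫ DerivedCategory.Q.objObjPreimageIso K)).1 ?_
    rw [hτ P hP]
    infer_instance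
  haveI := NatIso.isIso_of_isIso_app τ
  exact ⟨asIso τ⟩

/-- flat base change, from either side -/
theorem bc_of_flat_or {X' S S' : Scheme.{u}} {f : X ⟶ S} {g : S' ⟶ S} {g' : X' ⟶ X} {f' : X' ⟶ S'}
    [DCoh.HasRpush f] [DCoh.HasRpush g] [DCoh.HasRpush f'] [DCoh.HasRpush g'] [DCoh.HasLpull g] [DCoh.HasLpull g']
    (hc : IsPullback g' f' f g) [QuasiCompact f] [QuasiSeparated f] (h : Flat f ∨ Flat g) : BC hc.w := by
  rcases h with hF | hF
  · haveI := hF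
    refine BC_of_torIndependent hc fun U hU U' hU' hle V hV hVU i hi => ?_
    letI := (g.appLE U U' hle).hom.toAlgebra
    letI := (f.appLE U V hVU).hom.toAlgebra
    haveI : Module.Flat Γ(S, U) Γ(X, V) :=
      RingHom.flat_algebraMap_iff.1 (HasRingHomProperty.appLE (P := @Flat) f hF ⟨U, hU⟩ ⟨V, hV⟩ hVU)
    exact (Groth.Agent.S3527.result Γ(S, U) Γ(X, V) Γ(S', U') i hi).2
  · haveI := hF
    exact BC_flat hc

/-- base change of a kernel functor -/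
theorem nonempty_pull_kernel {A A' X' Y' : Scheme.{u}} {π : X' ⟶ X} {p₁ : A ⟶ X} {p₂ : A ⟶ Y}
    {q₁ : A' ⟶ X'} {q₂ : A' ⟶ Y'} {h : A' ⟶ A} {ϖ : Y' ⟶ Y} (w₁ : q₁ ≫ π = h ≫ p₁)
    (hc : IsPullback h q₂ p₂ ϖ) [QuasiCompact p₂] [QuasiSeparated p₂] (hflat : Flat p₂ ∨ Flat ϖ)
    (K : CochainComplex A.Modules ℤ) (hK : DCoh.IsQCohD (DCoh.toD _ K))
    [DCoh.HasLpull p₁] [DCoh.HasLTensorCx K] [DCoh.HasRpush p₂] [DCoh.HasLpull π] [DCoh.HasLpull ϖ] [DCoh.HasLpull h]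
    (K' : CochainComplex A'.Modules ℤ) (hK' : Nonempty (DCoh.toD _ K' ≅ (DCoh.Lpull h).obj (DCoh.toD _ K)))
    [DCoh.HasLpull q₁] [DCoh.HasLTensorCx K'] [DCoh.HasRpush q₂] :
    Nonempty (ObjectProperty.ι (DCoh.IsQCohD (X := X)) ⋙ DCoh.Lpull π ⋙
        DCoh.Lpull q₁ ⋙ DCoh.LTensorCx K' ⋙ DCoh.Rpush q₂ ≅
      ObjectProperty.ι (DCoh.IsQCohD (X := X)) ⋙
        (DCoh.Lpull p₁ ⋙ DCoh.LTensorCx K ⋙ DCoh.Rpush p₂) ⋙ DCoh.Lpull ϖ) := by
  haveI := fun {A B : Scheme.{u}} (k : A ⟶ B) => RpushQC.hasRpush k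
  haveI := fun {A B : Scheme.{u}} (k : A ⟶ B) => Groth.L00.KFlat.hasLpull k
  obtain ⟨P, q, hP, -, hq, -⟩ := Groth.L00.KFlat.exists_resolution K
  haveI := (DerivedCategory.isIso_Q_map_iff_quasiIso _ q).2 hq
  haveI : DCoh.HasLTensorCx P := Groth.L00.KFlat.hasLTensorCx P
  haveI : DCoh.HasLTensorCx ((Proj.pullCx h).obj P) := Groth.L00.KFlat.hasLTensorCx _
  obtain ⟨eK'⟩ := hK'
  let eP : DerivedCategory.Q.obj P ≅ DerivedCategory.Q.obj K := asIso (DerivedCategory.Q.map q)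
  obtain ⟨c⟩ := ProjQC.nonempty_LTensorCx_congr eP
  obtain ⟨c'⟩ := ProjQC.nonempty_LTensorCx_congr (eK' ≪≫ (DCoh.Lpull h).mapIso eP.symm ≪≫
    Groth.L00.DerivedApi.objIso (Groth.L00.DerivedApi.acyclicKFlat_pullback h) P hP)
  obtain ⟨l₁⟩ := Groth.L00.DerivedApi.lpull_comp q₁ π
  obtain ⟨l₂⟩ := Groth.L00.DerivedApi.lpull_comp h p₁
  have hl : Nonempty (DCoh.Lpull π ⋙ DCoh.Lpull q₁ ≅ DCoh.Lpull p₁ ⋙ DCoh.Lpull h) := by
    have key : ∀ {k : A' ⟶ X} (_ : q₁ ≫ π = k) [DCoh.HasLpull k],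
        Nonempty (DCoh.Lpull π ⋙ DCoh.Lpull q₁ ≅ DCoh.Lpull k) := by
      intro k hk _
      subst hk
      exact ⟨l₁⟩
    obtain ⟨l⟩ := key w₁
    exact ⟨l ≪≫ l₂.symm⟩
  obtain ⟨l⟩ := hl
  obtain ⟨t⟩ := nonempty_pullTensorD h P hP
  have hbc : BC hc.w := bc_of_flat_or hc hflat
  let S := ObjectProperty.ι (DCoh.IsQCohD (X := X)) ⋙ DCoh.Lpull p₁ ⋙ DCoh.LTensorCx K
  haveI : ∀ E, IsIso ((Functor.whiskerLeft S (βNat hc.w)).app E) := fun E =>
    hbc _ (isQCohD_LTensorCx K hK (isQCohD_Lpull p₁ E.property))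
  haveI := NatIso.isIso_of_isIso_app (Functor.whiskerLeft S (βNat hc.w))
  let ι := ObjectProperty.ι (DCoh.IsQCohD (X := X))
  let e : DCoh.Lpull π ⋙ DCoh.Lpull q₁ ⋙ DCoh.LTensorCx K' ≅
      DCoh.Lpull p₁ ⋙ DCoh.LTensorCx K ⋙ DCoh.Lpull h :=
    (Functor.associator _ _ _).symm ≪≫ Functor.isoWhiskerRight l _ ≪≫ Functor.associator _ _ _ ≪≫
      Functor.isoWhiskerLeft (DCoh.Lpull p₁) (Functor.isoWhiskerLeft (DCoh.Lpull h) c' ≪≫ t.symm ≪≫
        Functor.isoWhiskerRight c (DCoh.Lpull h))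
  exact ⟨Functor.isoWhiskerLeft ι (Functor.isoWhiskerRight e (DCoh.Rpush q₂)) ≪≫
    (asIso (Functor.whiskerLeft S (βNat hc.w))).symm⟩

end Groth.L10.FMBC
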