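import Groth.Agent.L10.FMBC.Equiv

/-!
Convolution commutes with base change.
-/

set_option autoImplicit false
set_option linter.style.haveILetI false
set_option backward.defeqAttrib.useBackward true
set_option backward.isDefEq.respectTransparency false
set_option backward.isDefEq.respectTransparency.types false

universe u

open CategoryTheory CategoryTheory.Limits AlgebraicGeometry

attribute [local instance] HasDerivedCategory.standard

namespace Groth.L10.FMBC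

open Groth.L29.BC Groth.L29.DC

theorem nonempty_lpull_sq {T' T A' A : Scheme.{u}} {hT : T' ⟶ T} {p : T ⟶ A} {p' : T' ⟶ A'} {h : A' ⟶ A}
    (w : hT ≫ p = p' ≫ h) [DCoh.HasLpull hT] [DCoh.HasLpull p] [DCoh.HasLpull p'] [DCoh.HasLpull h] :
    Nonempty (DCoh.Lpull p ⋙ DCoh.Lpull hT ≅ DCoh.Lpull h ⋙ DCoh.Lpull p') := by
  haveI : DCoh.HasLpull (hT ≫ p) := Groth.L00.KFlat.hasLpull _
  obtain ⟨l₁⟩ := nonempty_lpull_comp' hT p rfl
  obtain ⟨l₂⟩ := nonempty_lpull_comp' p' h w.symm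
  exact ⟨l₁ ≪≫ l₂.symm⟩

variable {A B C T A' B' C' T' : Scheme.{u}} {p₁₂ : T ⟶ A} {p₂₃ : T ⟶ B} {p₁₃ : T ⟶ C} {q₁₂ : T' ⟶ A'}
  {q₂₃ : T' ⟶ B'} {q₁₃ : T' ⟶ C'} {h₁₂ : A' ⟶ A} {h₂₃ : B' ⟶ B} {h₁₃ : C' ⟶ C} {hT : T' ⟶ T}

set_option maxHeartbeats 800000 in
/-- pullback of a convolution -/
theorem nonempty_pull_conv (w₁₂ : hT ≫ p₁₂ = q₁₂ ≫ h₁₂) (w₂₃ : hT ≫ p₂₃ = q₂₃ ≫ h₂₃)
    (hc : IsPullback hT q₁₃ p₁₃ h₁₃) [Flat p₁₃] [QuasiCompact p₁₃] [QuasiSeparated p₁₃] [Flat p₂₃] [Flat q₂₃]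
    (K : CochainComplex A.Modules ℤ) (M : CochainComplex B.Modules ℤ)
    (hK : DCoh.IsQCohD (DCoh.toD _ K)) (hM : DCoh.IsQCohD (DCoh.toD _ M))
    [DCoh.HasLpull p₁₂] [DCoh.HasLTensorCx ((FMK.cxPull p₂₃).obj M)] [DCoh.HasRpush p₁₃]
    [DCoh.HasLpull h₁₂] [DCoh.HasLpull h₂₃] [DCoh.HasLpull h₁₃]
    (K₁ : CochainComplex A'.Modules ℤ) (hK₁ : Nonempty (DCoh.toD _ K₁ ≅ (DCoh.Lpull h₁₂).obj (DCoh.toD _ K)))
    (M₁ : CochainComplex B'.Modules ℤ) (hM₁ : Nonempty (DCoh.toD _ M₁ ≅ (DCoh.Lpull h₂₃).obj (DCoh.toD _ M)))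
    [DCoh.HasLpull q₁₂] [DCoh.HasLTensorCx ((FMK.cxPull q₂₃).obj M₁)] [DCoh.HasRpush q₁₃] :
    Nonempty ((DCoh.Lpull h₁₃).obj ((DCoh.Rpush p₁₃).obj ((DCoh.LTensorCx ((FMK.cxPull p₂₃).obj M)).obj
        ((DCoh.Lpull p₁₂).obj (DCoh.toD _ K)))) ≅
      (DCoh.Rpush q₁₃).obj ((DCoh.LTensorCx ((FMK.cxPull q₂₃).obj M₁)).obj
        ((DCoh.Lpull q₁₂).obj (DCoh.toD _ K₁)))) := by
  haveI := fun {A B : Scheme.{u}} (k : A ⟶ B) => RpushQC.hasRpush k
  haveI := fun {A B : Scheme.{u}} (k : A ⟶ B) => Groth.L00.KFlat.hasLpull k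
  haveI := fun {V : Scheme.{u}} (E : CochainComplex V.Modules ℤ) => Groth.L00.KFlat.hasLTensorCx E
  obtain ⟨eK₁⟩ := hK₁
  obtain ⟨eM₁⟩ := hM₁
  let L := (FMK.cxPull p₂₃).obj M
  obtain ⟨P, q, hP, -, hq, -⟩ := Groth.L00.KFlat.exists_resolution L
  haveI := (DerivedCategory.isIso_Q_map_iff_quasiIso _ q).2 hq
  let eP : DerivedCategory.Q.obj P ≅ DerivedCategory.Q.obj L := asIso (DerivedCategory.Q.map q)
  obtain ⟨eL⟩ := nonempty_pullCx_flat p₂₃ M
  obtain ⟨eL₁⟩ := nonempty_pullCx_flat q₂₃ M₁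
  obtain ⟨cP⟩ := ProjQC.nonempty_LTensorCx_congr eP
  obtain ⟨l₂₃⟩ := nonempty_lpull_sq w₂₃
  obtain ⟨l₁₂⟩ := nonempty_lpull_sq w₁₂
  obtain ⟨c₁⟩ := ProjQC.nonempty_LTensorCx_congr
    ((Groth.L00.DerivedApi.objIso (Groth.L00.DerivedApi.acyclicKFlat_pullback hT) P hP).symm ≪≫
      (DCoh.Lpull hT).mapIso (eP ≪≫ eL) ≪≫ l₂₃.app (DCoh.toD _ M) ≪≫ (DCoh.Lpull q₂₃).mapIso eM₁.symm ≪≫ eL₁.symm)
  obtain ⟨t⟩ := nonempty_pullTensorD hT P hP
  let E := (DCoh.LTensorCx L).obj ((DCoh.Lpull p₁₂).obj (DCoh.toD _ K))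
  have hE : DCoh.IsQCohD E :=
    isQCohD_LTensorCx L (isQCohD_of_iso eL.symm (isQCohD_Lpull p₂₃ hM)) (isQCohD_Lpull p₁₂ hK)
  have hb : IsIso (β hc.w E) := bc_of_flat_or hc (Or.inl inferInstance) E hE
  let e : (DCoh.Lpull hT).obj E ≅
      (DCoh.LTensorCx ((FMK.cxPull q₂₃).obj M₁)).obj ((DCoh.Lpull q₁₂).obj (DCoh.toD _ K₁)) :=
    (DCoh.Lpull hT).mapIso (cP.app _).symm ≪≫ t.app _ ≪≫ c₁.app _ ≪≫
      (DCoh.LTensorCx _).mapIso (l₁₂.app (DCoh.toD _ K) ≪≫ (DCoh.Lpull q₁₂).mapIso eK₁.symm)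
  exact ⟨@asIso _ _ _ _ (β hc.w E) hb ≪≫ (DCoh.Rpush q₁₃).mapIso e⟩

variable {S S' X Y Z : Scheme.{u}} (a : X ⟶ S) (b : Y ⟶ S) (c : Z ⟶ S) (g : S' ⟶ S)

/-- the comparison map of double products -/
noncomputable abbrev mapAB : pullback (pullback.snd a g) (pullback.snd b g) ⟶ pullback a b :=
  pullback.map (pullback.snd a g) (pullback.snd b g) a b (pullback.fst a g) (pullback.fst b g) g
    pullback.condition.symm pullback.condition.symm

theorem mapAB_fst : mapAB a b g ≫ pullback.fst a b = pullback.fst _ _ ≫ pullback.fst a g := pullback.lift_fst _ _ _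

theorem mapAB_snd : mapAB a b g ≫ pullback.snd a b = pullback.snd _ _ ≫ pullback.fst b g := pullback.lift_snd _ _ _

/-- the comparison map of triple products -/
noncomputable def mapT : FMK.T (pullback.snd a g) (pullback.snd b g) (pullback.snd c g) ⟶ FMK.T a b c :=
  pullback.lift (FMK.p12 _ _ _ ≫ mapAB a b g) (FMK.p23 _ _ _ ≫ mapAB b c g) (by
    rw [Category.assoc, Category.assoc, mapAB_snd, mapAB_fst, ← Category.assoc, ← Category.assoc,
      pullback.condition])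

theorem mapT_p12 : mapT a b c g ≫ FMK.p12 a b c = FMK.p12 _ _ _ ≫ mapAB a b g := pullback.lift_fst _ _ _

theorem mapT_p23 : mapT a b c g ≫ FMK.p23 a b c = FMK.p23 _ _ _ ≫ mapAB b c g := pullback.lift_snd _ _ _

theorem isPullback_mapAB :
    IsPullback (mapAB a b g) (pullback.fst (pullback.snd a g) (pullback.snd b g)) (pullback.fst a b)
      (pullback.fst a g) := by
  have h := (IsPullback.of_hasPullback (pullback.snd a g) (pullback.snd b g)).flip.paste_horiz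
    (IsPullback.of_hasPullback b g)
  rw [← mapAB_snd, ← pullback.condition (f := a) (g := g)] at h
  exact IsPullback.of_right h (mapAB_fst a b g) (IsPullback.of_hasPullback a b).flip

theorem mapT_p13 : mapT a b c g ≫ FMK.p13 a b c = FMK.p13 _ _ _ ≫ mapAB a c g := by
  apply pullback.hom_ext
  · rw [Category.assoc, Category.assoc, FMK.p13_fst, mapAB_fst, ← Category.assoc, mapT_p12, Category.assoc,
      mapAB_fst, ← Category.assoc, ← Category.assoc, FMK.p13_fst]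
  · rw [Category.assoc, Category.assoc, FMK.p13_snd, mapAB_snd, ← Category.assoc, mapT_p23, Category.assoc,
      mapAB_snd, ← Category.assoc, ← Category.assoc, FMK.p13_snd]

theorem isPullback_mapT :
    IsPullback (mapT a b c g) (FMK.p13 (pullback.snd a g) (pullback.snd b g) (pullback.snd c g))
      (FMK.p13 a b c) (mapAB a c g) := by
  have h := (isPullback_p13 (pullback.snd a g) (pullback.snd b g) (pullback.snd c g)).paste_horiz
    (isPullback_mapAB a b g)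
  rw [← mapT_p12, ← mapAB_fst] at h
  exact IsPullback.of_right h (mapT_p13 a b c g) (isPullback_p13 a b c)

end Groth.L10.FMBC
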