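import Groth.Agent.L29.BC.TorGlobal
import Groth.Agent.L29.DCoh.RpushAffine
import Groth.Agent.L29.RelPC.BCRel

/-!
Base change for a closed section of a flat morphism.
-/

set_option autoImplicit false
set_option linter.style.haveILetI false
set_option backward.defeqAttrib.useBackward true
set_option backward.isDefEq.respectTransparency false
set_option backward.isDefEq.respectTransparency.types false

universe u

open CategoryTheory CategoryTheory.Limits AlgebraicGeometry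

attribute [local instance] HasDerivedCategory.standard

namespace Groth.L10.FMBC

open Groth.L29.BC Groth.L29.DC

set_option maxHeartbeats 800000 in
/-- base change for a closed immersion which is a section of a flat morphism -/
theorem bc_of_section {X X' Y Y' : Scheme.{u}} {d : X ⟶ Y} {d' : X' ⟶ Y'} {h : Y' ⟶ Y} {π : X' ⟶ X}
    {k : Y ⟶ X} {q : Y' ⟶ X'} [IsClosedImmersion d] [Flat k]
    [DCoh.HasRpush d] [DCoh.HasRpush h] [DCoh.HasRpush d'] [DCoh.HasRpush π] [DCoh.HasLpull h] [DCoh.HasLpull π]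
    (hc : IsPullback π d' d h) (hp : IsPullback h q k π) (hd : d ≫ k = 𝟙 X) : BC hc.w := fun E hE => by
  haveI : IsClosedImmersion d' := MorphismProperty.of_isPullback hc inferInstance
  refine isIso_of_Lpull_cover _ fun y => ?_
  obtain ⟨_, ⟨(W₀ : X.Opens), hW₀, rfl⟩, hyW₀, -⟩ :=
    X.isBasis_affineOpens.exists_subset_of_mem_open (Set.mem_univ (k (h y))) isOpen_univ
  obtain ⟨_, ⟨(W : Y.Opens), hW, rfl⟩, hyW, eV⟩ :=
    Y.isBasis_affineOpens.exists_subset_of_mem_open (show h y ∈ k ⁻¹ᵁ W₀ from hyW₀) (k ⁻¹ᵁ W₀).2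
  have hqy : q y ∈ π ⁻¹ᵁ W₀ := by
    show π (q y) ∈ W₀
    rw [← Scheme.Hom.comp_apply, ← hp.w, Scheme.Hom.comp_apply]
    exact hyW₀
  obtain ⟨_, ⟨(W₀' : X'.Opens), hW₀', rfl⟩, hyW₀', eW⟩ :=
    X'.isBasis_affineOpens.exists_subset_of_mem_open hqy (π ⁻¹ᵁ W₀).2
  let W' : Y'.Opens := h ⁻¹ᵁ W ⊓ q ⁻¹ᵁ W₀'
  have hsW' : y ∈ W' := ⟨hyW, hyW₀'⟩
  have hle : W' ≤ h ⁻¹ᵁ W := inf_le_left
  haveI : IsAffine (W₀ : Scheme.{u}) := hW₀
  haveI : IsAffine (W : Scheme.{u}) := hW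
  haveI : IsAffine (W₀' : Scheme.{u}) := hW₀'
  have hpb := Scheme.Hom.isPullback_resLE hp (UT := W₀') eW eV (UY := W') rfl
  haveI : IsAffine (W' : Scheme.{u}) := IsAffine.of_isPullback hpb
  have hk : IsPullback (d' ⁻¹ᵁ W').ι (d' ∣_ W') d' W'.ι := (isPullback_morphismRestrict d' W').flip
  have hi : IsPullback (d ⁻¹ᵁ W).ι (d ∣_ W) d W.ι := (isPullback_morphismRestrict d W).flip
  have h' : d' ⁻¹ᵁ W' ≤ π ⁻¹ᵁ (d ⁻¹ᵁ W) := fun x hx => by
    show d (π x) ∈ W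
    rw [← Scheme.Hom.comp_apply, hc.w, Scheme.Hom.comp_apply]
    exact hle hx
  let g₀ := h.resLE W W' hle
  let g₀' := π.resLE (d ⁻¹ᵁ W) (d' ⁻¹ᵁ W') h'
  have eg : g₀ ≫ W.ι = W'.ι ≫ h := Scheme.Hom.resLE_comp_ι _ _
  have eg' : g₀' ≫ (d ⁻¹ᵁ W).ι = (d' ⁻¹ᵁ W').ι ≫ π := Scheme.Hom.resLE_comp_ι _ _
  have htot : IsPullback (g₀' ≫ (d ⁻¹ᵁ W).ι) (d' ∣_ W') d (g₀ ≫ W.ι) := by
    rw [eg, eg']
    exact hk.paste_horiz hc
  have hc₀ : IsPullback g₀' (d' ∣_ W') (d ∣_ W) g₀ := IsPullback.of_right htot (by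
    rw [← cancel_mono W.ι]
    simp only [Category.assoc, morphismRestrict_ι, eg]
    rw [reassoc_of% eg', hc.w, morphismRestrict_ι_assoc]) hi
  haveI := fun {A B : Scheme.{u}} (h : A ⟶ B) => RpushQC.hasRpush h
  haveI := fun {A B : Scheme.{u}} (h : A ⟶ B) => Groth.L00.KFlat.hasLpull h
  haveI : IsClosedImmersion (d ∣_ W) := IsZariskiLocalAtTarget.restrict ‹IsClosedImmersion d› W
  haveI : IsClosedImmersion (d' ∣_ W') := IsZariskiLocalAtTarget.restrict ‹IsClosedImmersion d'› W'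
  haveI : IsAffine (d ⁻¹ᵁ W : Scheme.{u}) := isAffine_of_isAffineHom (d ∣_ W)
  let k₀ := k.resLE W₀ W eV
  let q₀ := q.resLE W₀' W' inf_le_right
  haveI : Flat k₀ := by
    show Flat (k.resLE W₀ W eV)
    unfold Scheme.Hom.resLE
    haveI : Flat (k ∣_ W₀) := IsZariskiLocalAtTarget.restrict ‹Flat k› W₀
    infer_instance
  haveI : IsOpenImmersion (d ∣_ W ≫ k₀) := by
    haveI : IsOpenImmersion ((d ∣_ W ≫ k₀) ≫ W₀.ι) := by
      rw [Category.assoc, Scheme.Hom.resLE_comp_ι, morphismRestrict_ι_assoc, hd, Category.comp_id]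
      infer_instance
    exact IsOpenImmersion.of_comp _ W₀.ι
  have hb : ∀ F, DCoh.IsQCohD F → IsIso (β hc₀.w F) := fun F hF => by
    have ht : IsIso (β (hc₀.paste_vert hpb).w F) := BC_flat_source (hc₀.paste_vert hpb) F hF
    haveI := (isIso_β_horiz hpb.w hc₀.w (hc₀.paste_vert hpb).w F).1 ht
    haveI : IsIso (β hpb.w ((DCoh.Rpush (d ∣_ W)).obj F)) :=
      BC_flat_source hpb _ (RpushQC.isQCohD_Rpush _ F hF)
    have h₁ : IsIso ((DCoh.Rpush q₀).map (β hc₀.w F)) :=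
      IsIso.of_isIso_comp_left (β hpb.w ((DCoh.Rpush (d ∣_ W)).obj F)) _
    exact RpushQC.isIso_of_isIso_Rpush q₀ (isQCohD_Lpull g₀ (RpushQC.isQCohD_Rpush _ F hF))
      (RpushQC.isQCohD_Rpush _ _ (isQCohD_Lpull g₀' hF)) _ h₁
  have h₀ : IsIso ((DCoh.Lpull g₀).map (β hi.w E) ≫ β hc₀.w ((DCoh.Lpull (d ⁻¹ᵁ W).ι).obj E)) := by
    haveI : IsIso (β hi.w E) := isIso_β_open hi E
    haveI := hb _ (Groth.Agent.S1054.result (d ⁻¹ᵁ W).ι E hE)
    infer_instance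
  have ht : IsIso (β (hk.paste_horiz hc).w E) :=
    isIso_β_congr eg eg' htot.w _ E ((isIso_β_vert hi.w hc₀.w htot.w E).2 h₀)
  haveI := (isIso_β_vert hc.w hk.w (hk.paste_horiz hc).w E).1 ht
  haveI : IsIso (β hk.w ((DCoh.Lpull π).obj E)) := isIso_β_open hk _
  exact ⟨W', inferInstance, hsW', IsIso.of_isIso_comp_right _ (β hk.w ((DCoh.Lpull π).obj E))⟩

end Groth.L10.FMBC
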