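import Groth.Agent.L10.FMBC.Conv
import Groth.Agent.L10.FMBC.Section
import Groth.Agent.L29.LocFree

/-!
The diagonal kernel commutes with base change.
-/

set_option autoImplicit false
set_option linter.style.haveILetI false
set_option backward.defeqAttrib.useBackward true
set_option backward.isDefEq.respectTransparency false
set_option backward.isDefEq.respectTransparency.types false

universe u

open CategoryTheory CategoryTheory.Limits AlgebraicGeometry

attribute [local instance] HasDerivedCategory.standard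

namespace Groth.L10.FMBC

open Groth.L29.BC Groth.L29.DC

theorem nonempty_Lpull_O0' {X X' : Scheme.{u}} (g : X' ⟶ X) [DCoh.HasLpull g] :
    Nonempty ((DCoh.Lpull g).obj (DCoh.toD X (RHom.O0 X)) ≅ DCoh.toD X' (RHom.O0 X')) := by
  haveI := Groth.L29.RelPC.additive_pullback g
  exact ⟨Groth.L00.DerivedApi.objIso (Groth.L00.DerivedApi.acyclicKFlat_pullback g) (RHom.O0 X)
      (isKFlat_of_isStrictlyPerfect RHom.isStrictlyPerfect_O0) ≪≫
    DerivedCategory.Q.mapIso ((HomologicalComplex.singleMapHomologicalComplex (Scheme.Modules.pullback g)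
      (ComplexShape.up ℤ) 0).app (Coh.structureModule X) ≪≫
      (HomologicalComplex.single X'.Modules (ComplexShape.up ℤ) 0).mapIso (Groth.L29.LocFree.pullbackUnitIso g))⟩

/-- `Δ_* O` is the derived direct image -/
theorem nonempty_diagO {S X : Scheme.{u}} (a : X ⟶ S) [IsSeparated a] [DCoh.HasRpush (pullback.diagonal a)] :
    Nonempty (FMK.diagO a ≅ (DCoh.Rpush (pullback.diagonal a)).obj (DCoh.toD X (RHom.O0 X))) := by
  haveI := Groth.L17.PushQCoh.additive_push (pullback.diagonal a)
  exact ⟨(DerivedCategory.singleFunctorIsoCompQ (pullback a a).Modules 0).app _ ≪≫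
    DerivedCategory.Q.mapIso ((HomologicalComplex.singleMapHomologicalComplex
      (Scheme.Modules.pushforward (pullback.diagonal a)) (ComplexShape.up ℤ) 0).app (Coh.structureModule X)).symm ≪≫
    (Groth.L10.FMDiag.rpushIso (pullback.diagonal a)).app (RHom.O0 X)⟩

variable {S S' X Y : Scheme.{u}} (a : X ⟶ S) (g : S' ⟶ S)

theorem isPullback_diag :
    IsPullback (pullback.fst a g) (pullback.diagonal (pullback.snd a g)) (pullback.diagonal a) (mapAB a a g) := by
  have h : IsPullback (pullback.fst a g) (pullback.diagonal (pullback.snd a g) ≫ pullback.fst _ _)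
      (pullback.diagonal a ≫ pullback.fst a a) (pullback.fst a g) := by
    rw [pullback.diagonal_fst, pullback.diagonal_fst]
    exact IsPullback.of_vert_isIso ⟨(Category.comp_id _).trans (Category.id_comp _).symm⟩
  refine IsPullback.of_bot h ?_ (isPullback_mapAB a a g)
  apply pullback.hom_ext
  · simp only [Category.assoc, pullback.diagonal_fst, mapAB_fst, Category.comp_id]
    rw [← Category.assoc, pullback.diagonal_fst, Category.id_comp]
  · simp only [Category.assoc, pullback.diagonal_snd, mapAB_snd, Category.comp_id]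
    rw [← Category.assoc, pullback.diagonal_snd, Category.id_comp]

set_option maxHeartbeats 800000 in
/-- pullback of the diagonal kernel -/
theorem nonempty_pull_diagO [IsSeparated a] [Flat a] [DCoh.HasLpull (mapAB a a g)] :
    Nonempty ((DCoh.Lpull (mapAB a a g)).obj (FMK.diagO a) ≅ FMK.diagO (pullback.snd a g)) := by
  haveI := fun {A B : Scheme.{u}} (k : A ⟶ B) => RpushQC.hasRpush k
  haveI := fun {A B : Scheme.{u}} (k : A ⟶ B) => Groth.L00.KFlat.hasLpull k
  obtain ⟨d⟩ := nonempty_diagO a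
  obtain ⟨d'⟩ := nonempty_diagO (pullback.snd a g)
  obtain ⟨e⟩ := nonempty_Lpull_O0' (pullback.fst a g)
  have hO : DCoh.IsQCohD (DCoh.toD X (RHom.O0 X)) :=
    PCQCoh.isQCohD_of_perfect ((isPerfect_iff_wit _).2 fun x => ⟨⊤, trivial,
      (show PWit (DerivedCategory.Q.obj (RHom.O0 X)) from ⟨_, RHom.isStrictlyPerfect_O0, ⟨Iso.refl _⟩⟩).restrict _⟩)
  haveI : IsIso (β (isPullback_diag a g).w (DCoh.toD X (RHom.O0 X))) :=
    bc_of_section (isPullback_diag a g) (isPullback_mapAB a a g) (pullback.diagonal_fst a) _ hO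
  exact ⟨(DCoh.Lpull (mapAB a a g)).mapIso d ≪≫ asIso (β (isPullback_diag a g).w (DCoh.toD X (RHom.O0 X))) ≪≫
    (DCoh.Rpush _).mapIso e ≪≫ d'.symm⟩

/-- one half of the base change of an invertible kernel -/
theorem nonempty_diag_conv_bc (b : Y ⟶ S) [IsProper a] [Flat a] [IsProper b] [Flat b] [LocallyOfFinitePresentation b]
    (K : CochainComplex (pullback a b).Modules ℤ) (M : CochainComplex (pullback b a).Modules ℤ)
    (hK : DCoh.IsQCohD (DCoh.toD _ K)) (hM : DCoh.IsQCohD (DCoh.toD _ M))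
    [DCoh.HasLpull (FMK.p12 a b a)] [DCoh.HasLTensorCx ((FMK.cxPull (FMK.p23 a b a)).obj M)]
    [DCoh.HasRpush (FMK.p13 a b a)] [DCoh.HasLpull (mapAB a b g)] [DCoh.HasLpull (mapAB b a g)]
    (K₁ : CochainComplex (pullback (pullback.snd a g) (pullback.snd b g)).Modules ℤ)
    (hK₁ : Nonempty (DCoh.toD _ K₁ ≅ (DCoh.Lpull (mapAB a b g)).obj (DCoh.toD _ K)))
    (M₁ : CochainComplex (pullback (pullback.snd b g) (pullback.snd a g)).Modules ℤ)
    (hM₁ : Nonempty (DCoh.toD _ M₁ ≅ (DCoh.Lpull (mapAB b a g)).obj (DCoh.toD _ M)))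
    [DCoh.HasLpull (FMK.p12 (pullback.snd a g) (pullback.snd b g) (pullback.snd a g))]
    [DCoh.HasLTensorCx ((FMK.cxPull (FMK.p23 (pullback.snd a g) (pullback.snd b g) (pullback.snd a g))).obj M₁)]
    [DCoh.HasRpush (FMK.p13 (pullback.snd a g) (pullback.snd b g) (pullback.snd a g))]
    (h : Nonempty (FMK.diagO a ≅ FMK.conv a b a K ((FMK.cxPull (FMK.p23 a b a)).obj M))) :
    Nonempty (FMK.diagO (pullback.snd a g) ≅
      FMK.conv (pullback.snd a g) (pullback.snd b g) (pullback.snd a g) K₁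
        ((FMK.cxPull (FMK.p23 (pullback.snd a g) (pullback.snd b g) (pullback.snd a g))).obj M₁)) := by
  obtain ⟨e⟩ := h
  obtain ⟨h₁, h₂, h₃⟩ := p13_props a b a
  haveI : DCoh.HasLpull (mapAB a a g) := Groth.L00.KFlat.hasLpull _
  obtain ⟨d⟩ := nonempty_pull_diagO a g
  obtain ⟨c⟩ := nonempty_pull_conv (mapT_p12 a b a g) (mapT_p23 a b a g) (isPullback_mapT a b a g) K M hK hM
    K₁ hK₁ M₁ hM₁
  exact ⟨d.symm ≪≫ (DCoh.Lpull (mapAB a a g)).mapIso e ≪≫ c⟩

end Groth.L10.FMBC
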