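import Groth.Agent.L10.FMBC.Translate

/-!
The Mumford class as a pullback of the Poincaré class.
-/

set_option autoImplicit false
set_option linter.style.haveILetI false
set_option linter.unusedSectionVars false
set_option backward.defeqAttrib.useBackward true
set_option backward.isDefEq.respectTransparency false
set_option backward.isDefEq.respectTransparency.types false

universe u

open CategoryTheory CategoryTheory.Limits MonoidalCategory CartesianMonoidalCategory MonObj GrpObj AlgebraicGeometry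
open Groth.Agent.AbDualLib

attribute [local instance] HasDerivedCategory.standard

namespace Groth.L10.FMBC

variable {k : Type u} [Field k] {A At : Over (Spec (CommRingCat.of k))} [GrpObj A] [GrpObj At]
  {φ : ∀ T : Over (Spec (CommRingCat.of k)), PicF.Cl (PicF.XT A.hom T) → (T ⟶ At)}
  [IsProper A.hom] [Smooth A.hom] [GeometricallyConnected A.hom]
  {L L' : A.left.Modules} {Λ : (A ⊗ A).left.Modules}

theorem cl_mumford
    (hΛ : Nonempty (Λ ≅ CohB1.tensorMod (CohB1.tensorMod ((Scheme.Modules.pullback μ[A].left).obj L)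
      ((Scheme.Modules.pullback (fst A A).left).obj L')) ((Scheme.Modules.pullback (snd A A).left).obj L'))) :
    PicF.cl Λ = PicGrp.mulCl (PicGrp.mulCl (PicF.pullCl μ[A].left (PicF.cl L))
      (PicF.pullCl (fst A A).left (PicF.cl L'))) (PicF.pullCl (snd A A).left (PicF.cl L')) :=
  cl_congr hΛ.some

/-- the Mumford class is rigidified -/
theorem mumford_rig (hL' : PicF.IsInvertible L') (hLL : Nonempty (CohB1.tensorMod L L' ≅ Coh.structureModule A.left))
    (hΛ : Nonempty (Λ ≅ CohB1.tensorMod (CohB1.tensorMod ((Scheme.Modules.pullback μ[A].left).obj L)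
      ((Scheme.Modules.pullback (fst A A).left).obj L')) ((Scheme.Modules.pullback (snd A A).left).obj L'))) :
    PicF.pullCl (PicF.secT A.hom η[A].left (Over.w η[A]) A) (PicF.cl Λ) = oneCl _ := by
  haveI : Subsingleton ↥(Spec (CommRingCat.of k)) := inferInstanceAs (Subsingleton (PrimeSpectrum k))
  haveI : Subsingleton ↥(𝟙_ (Over (Spec (CommRingCat.of k)))).left :=
    inferInstanceAs (Subsingleton ↥(Spec (CommRingCat.of k)))
  rw [secT_eq_lift, cl_mumford hΛ]
  erw [pullCl_mulCl, pullCl_mulCl]
  rw [pullCl_left_comp, pullCl_left_comp, pullCl_left_comp, lift_fst, lift_snd, Over.id_left, PicLoc.pullCl_id,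
    ← Hom.one_def, ← Hom.mul_def, _root_.one_mul, Over.id_left, PicLoc.pullCl_id, Hom.one_def, Over.comp_left,
    PicLoc.pullCl_comp, eq_oneCl_of_subsingleton
      (PicLoc.isInvertibleCl_pullCl η[A].left (⟨L', rfl, hL'⟩ : PicF.IsInvertibleCl (PicF.cl L'))),
    pullCl_oneCl, mul_oneCl]
  exact cl_congr hLL.some

/-- the Mumford bundle is the pullback of the Poincaré bundle along `1 × φ_L` -/
theorem nonempty_mumford (hA : AbDual.IsDualAV Scheme.fppfPrecoverage A At φ)
    (P : (A ⊗ At).left.Modules) (hξ : AbDual.IsPoincareCl A At φ (PicF.cl P)) (hL' : PicF.IsInvertible L')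
    (hLL : Nonempty (CohB1.tensorMod L L' ≅ Coh.structureModule A.left))
    (hΛ : Nonempty (Λ ≅ CohB1.tensorMod (CohB1.tensorMod ((Scheme.Modules.pullback μ[A].left).obj L)
      ((Scheme.Modules.pullback (fst A A).left).obj L')) ((Scheme.Modules.pullback (snd A A).left).obj L')))
    (hΛ0 : AbDual.IsPicZeroCl A.hom A (PicF.cl Λ)) :
    Nonempty (Λ ≅ (Scheme.Modules.pullback (A ◁ φ A (PicF.cl Λ)).left).obj P) := by
  refine (PicGrp.cl_eq_cl_iff _ _).1 ?_
  have h : PicF.cl Λ = PicF.pullCl (PicF.XTmap A.hom (φ A (PicF.cl Λ))) (PicF.cl P) := by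
    refine eq_of_map_eq hA hΛ0 (isPicZeroCl_XTmap _ _ hξ.1) (mumford_rig hL' hLL hΛ) ?_ ?_
    · exact rig_pullCl _ _ ((congrArg _ hξ.2.2).trans (pullCl_oneCl _))
    · rw [hA.relPic.natural At A _ _ hξ.1, hξ.2.1, Category.comp_id]
  rw [XTmap_eq_whiskerLeft] at h
  exact h

/-- `p₁^*L ⊗ Λ ≅ m^*L ⊗ p₂^*L⁻¹` -/
theorem nonempty_mumford_absorb (hLL : Nonempty (CohB1.tensorMod L L' ≅ Coh.structureModule A.left))
    (hΛ : Nonempty (Λ ≅ CohB1.tensorMod (CohB1.tensorMod ((Scheme.Modules.pullback μ[A].left).obj L)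
      ((Scheme.Modules.pullback (fst A A).left).obj L')) ((Scheme.Modules.pullback (snd A A).left).obj L'))) :
    Nonempty (CohB1.tensorMod ((Scheme.Modules.pullback (fst A A).left).obj L) Λ ≅
      CohB1.tensorMod ((Scheme.Modules.pullback μ[A].left).obj L)
        ((Scheme.Modules.pullback (snd A A).left).obj L')) := by
  refine (PicGrp.cl_eq_cl_iff _ _).1 ?_
  change PicGrp.mulCl (PicF.pullCl (fst A A).left (PicF.cl L)) (PicF.cl Λ) =
    PicGrp.mulCl (PicF.pullCl μ[A].left (PicF.cl L)) (PicF.pullCl (snd A A).left (PicF.cl L'))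
  rw [cl_mumford hΛ, ← Groth.Agent.AbDualLib.mulCl_assoc, ← Groth.Agent.AbDualLib.mulCl_assoc,
    Groth.Agent.AbDualLib.mulCl_comm (PicF.pullCl (fst A A).left (PicF.cl L)),
    Groth.Agent.AbDualLib.mulCl_assoc (PicF.pullCl μ[A].left (PicF.cl L)), ← pullCl_mulCl]
  have h1 : PicGrp.mulCl (PicF.cl L) (PicF.cl L') = oneCl A.left := cl_congr hLL.some
  rw [h1, pullCl_oneCl, mul_oneCl]

omit [IsProper A.hom] [Smooth A.hom] [GeometricallyConnected A.hom] in
/-- the shearing square is cartesian -/
theorem isPullback_mul : IsPullback μ[A].left (snd A A).left A.hom A.hom := by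
  let σ := lift μ[A] (snd A A)
  haveI : IsIso σ := by
    refine ⟨⟨lift (fst A A * (snd A A)⁻¹) (snd A A), ?_, ?_⟩⟩
    · apply CartesianMonoidalCategory.hom_ext
      · rw [Category.assoc, lift_fst, MonObj.comp_mul, GrpObj.comp_inv, lift_fst, lift_snd, Category.id_comp,
          show μ[A] = fst A A * snd A A by rw [Hom.mul_def, lift_fst_snd, Category.id_comp], mul_inv_cancel_right]
      · rw [Category.assoc, lift_snd, lift_snd, Category.id_comp]
    · apply CartesianMonoidalCategory.hom_ext
      · rw [Category.assoc, lift_fst, ← Hom.mul_def, inv_mul_cancel_right, Category.id_comp]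
      · rw [Category.assoc, lift_snd, lift_snd, Category.id_comp]
  haveI : IsIso σ.left := inferInstanceAs (IsIso ((Over.forget _).map σ))
  refine IsPullback.of_iso_pullback ⟨(Over.w μ[A]).trans (Over.w (snd A A)).symm⟩ (asIso σ.left) ?_ ?_
  · exact congrArg CommaMorphism.left (lift_fst μ[A] (snd A A))
  · exact congrArg CommaMorphism.left (lift_snd μ[A] (snd A A))

end Groth.L10.FMBC
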