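import Groth.Agent.L10.FMBC.Basic
import Groth.Agent.L10.FMDiag.Basic
import Groth.Agent.Lead.LTMod
import Groth.Agent.L29.DCoh.PCQCoh
import Groth.Prelude.Def_Pic

/-!
Base change of a kernel functor given by a module along a section.
-/

set_option autoImplicit false
set_option linter.style.haveILetI false
set_option backward.defeqAttrib.useBackward true
set_option backward.isDefEq.respectTransparency false
set_option backward.isDefEq.respectTransparency.types false

universe u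

open CategoryTheory CategoryTheory.Limits AlgebraicGeometry

attribute [local instance] HasDerivedCategory.standard

namespace Groth.L10.FMBC

open Groth.L29.BC Groth.L29.DC

theorem isFinLocFree_of_invertible {Y : Scheme.{u}} {L : Y.Modules} (h : PicF.IsInvertible L) :
    FlatMod.IsFinLocFree L :=
  fun y => by
    obtain ⟨U, hy, ⟨e⟩⟩ := h y
    refine ⟨U, 1, hy, ⟨e ≪≫ ?_⟩⟩
    exact
      { hom := Sigma.ι (fun _ : Fin 1 => Coh.structureModule (↑U)) 0
        inv := Sigma.desc fun _ => 𝟙 _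
        hom_inv_id := Sigma.ι_desc _ _
        inv_hom_id := Sigma.hom_ext _ _ fun b => by
          rw [Subsingleton.elim b 0, Sigma.ι_desc_assoc, Category.id_comp, Category.comp_id] }

/-- evaluation of a kernel functor at a point -/
theorem nonempty_point {X Y A S₀ : Scheme.{u}} {p₁ : A ⟶ X} {p₂ : A ⟶ Y} {j : X ⟶ A} {f : X ⟶ S₀} {x : S₀ ⟶ Y}
    (hj : j ≫ p₁ = 𝟙 X) (hc : IsPullback j f p₂ x) [QuasiCompact p₂] [QuasiSeparated p₂] [Flat p₂]
    (P : A.Modules) (hinv : PicF.IsInvertible P)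
    [DCoh.HasLpull p₁] [DCoh.HasLTensorMod P] [DCoh.HasRpush p₂]
    [DCoh.HasLTensorMod ((Scheme.Modules.pullback j).obj P)] [DCoh.HasRpush f] [DCoh.HasLpull x]
    :
    Nonempty (ObjectProperty.ι (DCoh.IsQCohD (X := X)) ⋙
        DCoh.LTensorMod ((Scheme.Modules.pullback j).obj P) ⋙ DCoh.Rpush f ≅
      ObjectProperty.ι (DCoh.IsQCohD (X := X)) ⋙ (DCoh.Lpull p₁ ⋙ DCoh.LTensorMod P ⋙ DCoh.Rpush p₂) ⋙
        DCoh.Lpull x) := by
  haveI := fun {A B : Scheme.{u}} (k : A ⟶ B) => RpushQC.hasRpush k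
  haveI := fun {A B : Scheme.{u}} (k : A ⟶ B) => Groth.L00.KFlat.hasLpull k
  haveI := fun {V : Scheme.{u}} (E : CochainComplex V.Modules ℤ) => Groth.L00.KFlat.hasLTensorCx E
  haveI := Groth.L29.RelPC.additive_pullback j
  have hP : Coh.IsQCoh P := PCQCoh.isQCoh_of_isFinLocFree (isFinLocFree_of_invertible hinv)
  have hPf : FlatMod.IsFlat P := isFlat_of_isFinLocFree (isFinLocFree_of_invertible hinv)
  let K := Groth.Lead.LTMod.S0 P
  let K' := Groth.Lead.LTMod.S0 ((Scheme.Modules.pullback j).obj P)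
  have hK : DCoh.IsKFlat K := Groth.L00.KFlat.single _ hPf 0
  have hKq : DCoh.IsQCohD (DCoh.toD A K) :=
    isQCohD_of_iso ((DerivedCategory.singleFunctorIsoCompQ A.Modules 0).app P) (Groth.Lead.LTMod.isQCohD_inD_of hP)
  have hK' : Nonempty (DCoh.toD X K' ≅ (DCoh.Lpull j).obj (DCoh.toD A K)) :=
    ⟨DerivedCategory.Q.mapIso ((HomologicalComplex.singleMapHomologicalComplex (Scheme.Modules.pullback j)
        (ComplexShape.up ℤ) 0).app P).symm ≪≫
      (Groth.L00.DerivedApi.objIso (Groth.L00.DerivedApi.acyclicKFlat_pullback j) K hK).symm⟩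
  obtain ⟨i⟩ := nonempty_pull_kernel (π := 𝟙 X) (q₁ := 𝟙 X) (q₂ := f) (h := j) (ϖ := x)
    ((Category.id_comp _).trans hj.symm) hc (Or.inl inferInstance) K hKq K' hK'
  obtain ⟨l⟩ := Groth.L10.FMDiag.nonempty_Lpull_id (X := X)
  let ι := ObjectProperty.ι (DCoh.IsQCohD (X := X))
  exact ⟨Functor.isoWhiskerLeft ι (Functor.isoWhiskerRight (Groth.Lead.LTMod.iso _) (DCoh.Rpush f)) ≪≫
    Functor.isoWhiskerLeft ι (Functor.isoWhiskerRight l.symm (DCoh.LTensorCx K' ⋙ DCoh.Rpush f)) ≪≫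
    Functor.isoWhiskerLeft (ι ⋙ DCoh.Lpull (𝟙 X)) (Functor.isoWhiskerRight l.symm (DCoh.LTensorCx K' ⋙ DCoh.Rpush f)) ≪≫
    i ≪≫ Functor.isoWhiskerLeft (ι ⋙ DCoh.Lpull p₁)
      (Functor.isoWhiskerRight (Groth.Lead.LTMod.iso P).symm (DCoh.Rpush p₂ ⋙ DCoh.Lpull x))⟩

end Groth.L10.FMBC
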