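import Groth.Agent.L10.FMBC.Basic
import Groth.Agent.L29.BC.SupportAdj

/-!
The projection formula, natural in the object upstairs.
-/

set_option autoImplicit false
set_option linter.style.haveILetI false
set_option backward.defeqAttrib.useBackward true
set_option backward.isDefEq.respectTransparency false
set_option backward.isDefEq.respectTransparency.types false

universe u

open CategoryTheory CategoryTheory.Limits AlgebraicGeometry CochainComplex HomologicalComplex

attribute [local instance] HasDerivedCategory.standard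

namespace Groth.L10.FMBC

open Groth.L29.BC Groth.L29.DC

/-- natural transformations from good representatives receiving all maps -/
theorem exists_natTrans_of_reps {A DA C : Type*} [Category A] [Category DA] [Category C] (Q : A ⥤ DA)
    (F G : DA ⥤ C) (good : A → Prop) (hrep : ∀ E : DA, ∃ I, good I ∧ Nonempty (Q.obj I ≅ E))
    (hfull : ∀ {I J : A}, good J → ∀ d : Q.obj I ⟶ Q.obj J, ∃ m : I ⟶ J, Q.map m = d)
    (c : ∀ I, good I → (F.obj (Q.obj I) ⟶ G.obj (Q.obj I)))
    (hc : ∀ {I J : A} (hI : good I) (hJ : good J) (m : I ⟶ J), F.map (Q.map m) ≫ c J hJ = c I hI ≫ G.map (Q.map m)) :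
    ∃ τ : F ⟶ G, ∀ I (hI : good I), τ.app (Q.obj I) = c I hI := by
  choose I hI e using hrep
  have key : ∀ {E E' : DA} (J J' : A) (hJ : good J) (hJ' : good J') (i : Q.obj J ≅ E) (i' : Q.obj J' ≅ E')
      (d : E ⟶ E'), F.map d ≫ F.map i'.inv ≫ c J' hJ' ≫ G.map i'.hom =
        (F.map i.inv ≫ c J hJ ≫ G.map i.hom) ≫ G.map d := fun J J' hJ hJ' i i' d => by
    obtain ⟨m, hm⟩ := hfull hJ' (i.hom ≫ d ≫ i'.inv)
    have h := hc hJ hJ' m
    rw [hm] at h
    rw [← cancel_epi (F.map i.hom)]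
    simp only [← Category.assoc, ← Functor.map_comp]
    rw [Category.assoc (f := i.hom), h]
    simp
  refine ⟨{ app := fun E => F.map (e E).some.inv ≫ c _ (hI E) ≫ G.map (e E).some.hom
            naturality := fun E E' d => key _ _ (hI E) (hI E') (e E).some (e E').some d }, fun J hJ => ?_⟩
  have h := key _ J (hI (Q.obj J)) hJ (e (Q.obj J)).some (Iso.refl _) (𝟙 _)
  simpa using h.symm

section Total

universe v v'

variable {C₁ C₂ C₁' C₂' : Type*} [Category C₁] [Category C₂] [Category C₁'] [Category C₂']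
  {D : Type*} [Category.{v} D] {E : Type*} [Category.{v'} E]
  [Preadditive C₁] [Preadditive C₂] [Preadditive C₁'] [Preadditive C₂'] [Preadditive D] [Preadditive E]
  (F : C₁ ⥤ C₂ ⥤ D) [F.Additive] [∀ X, (F.obj X).Additive]
  (F' : C₁' ⥤ C₂' ⥤ E) [F'.Additive] [∀ X, (F'.obj X).Additive]
  (G₁ : C₁ ⥤ C₁') (G₂ : C₂ ⥤ C₂') (G : D ⥤ E) [G₁.Additive] [G₂.Additive] [G.Additive]
  (β : ∀ X Y, (F'.obj (G₁.obj X)).obj (G₂.obj Y) ⟶ G.obj ((F.obj X).obj Y))
  (hβ₁ : ∀ {X X' : C₁} (f : X ⟶ X') (Y : C₂),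
    (F'.map (G₁.map f)).app (G₂.obj Y) ≫ β X' Y = β X Y ≫ G.map ((F.map f).app Y))
  {K₁ K₁' : CochainComplex C₁ ℤ} (K₂ : CochainComplex C₂ ℤ)

include hβ₁ in
/-- naturality of the map of total complexes in the first complex -/
theorem map_natural₁ (a : K₁ ⟶ K₁') [HasMapBifunctor K₁ K₂ F (ComplexShape.up ℤ)]
    [HasMapBifunctor K₁' K₂ F (ComplexShape.up ℤ)]
    [HasMapBifunctor ((G₁.mapHomologicalComplex (ComplexShape.up ℤ)).obj K₁)
      ((G₂.mapHomologicalComplex (ComplexShape.up ℤ)).obj K₂) F' (ComplexShape.up ℤ)]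
    [HasMapBifunctor ((G₁.mapHomologicalComplex (ComplexShape.up ℤ)).obj K₁')
      ((G₂.mapHomologicalComplex (ComplexShape.up ℤ)).obj K₂) F' (ComplexShape.up ℤ)] (j : ℤ) :
    (mapBifunctorMap ((G₁.mapHomologicalComplex (ComplexShape.up ℤ)).map a)
        (𝟙 ((G₂.mapHomologicalComplex (ComplexShape.up ℤ)).obj K₂)) F' (ComplexShape.up ℤ)).f j ≫
        TotalMap.mapX F F' G₁ G₂ G β K₁' K₂ j =
      TotalMap.mapX F F' G₁ G₂ G β K₁ K₂ j ≫ G.map ((mapBifunctorMap a (𝟙 K₂) F (ComplexShape.up ℤ)).f j) := by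
  refine mapBifunctor.hom_ext fun p q h => ?_
  rw [ι_mapBifunctorMap_assoc, TotalMap.ι_mapX, ← Category.assoc (f := ιMapBifunctor _ _ _ _ p q j h),
    TotalMap.ι_mapX, Category.assoc, ← G.map_comp, ι_mapBifunctorMap]
  simp
  exact (reassoc_of% (hβ₁ (a.f p) (K₂.X q))) _

end Total

variable {X Y : Scheme.{u}}

/-- the projection map is natural in the complex upstairs -/
theorem proj_natural₁ (f : X ⟶ Y) {G G' : CochainComplex X.Modules ℤ} (a : G ⟶ G')
    (P : CochainComplex Y.Modules ℤ) :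
    ((DCoh.tensorCx (X := Y)).map ((Proj.pushCx f).map a)).app P ≫ Proj.proj f G' P =
      Proj.proj f G P ≫ (Proj.pushCx f).map (((DCoh.tensorCx (X := X)).map a).app ((Proj.pullCx f).obj P)) := by
  haveI := Groth.L17.PushQCoh.additive_push f
  haveI : (Scheme.Modules.pullback f).Additive :=
    (Scheme.Modules.pullbackPushforwardAdjunction f).left_adjoint_additive
  haveI : HasMapBifunctor G P (Proj.biF f) (ComplexShape.up ℤ) := fun _ => inferInstance
  haveI : HasMapBifunctor G' P (Proj.biF f) (ComplexShape.up ℤ) := fun _ => inferInstance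
  delta Proj.proj
  rw [Category.assoc, ← Functor.map_comp]
  let e := fun (G : CochainComplex X.Modules ℤ) =>
    haveI : HasMapBifunctor G P (Proj.biF f) (ComplexShape.up ℤ) := fun _ => inferInstance
    Groth.L00.FunctorTotal.totalIso (Proj.biF f) (DCoh.tensorBi (X := X)) (𝟭 X.Modules) (Scheme.Modules.pullback f)
      (𝟭 X.Modules) (fun A N => Iso.refl _)
      (fun g N => by exact (Category.comp_id _).trans (Category.id_comp _).symm)
      (fun A _ _ g => by exact (Category.comp_id _).trans (Category.id_comp _).symm) (c := ComplexShape.up ℤ) G P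
  have hn : ((DCoh.tensorCx (X := X)).map a).app ((Proj.pullCx f).obj P) ≫ (e G').hom =
      (e G).hom ≫ mapBifunctorMap a (𝟙 P) (Proj.biF f) (ComplexShape.up ℤ) := by
    refine HomologicalComplex.hom_ext _ _ fun j => ?_
    refine mapBifunctor.hom_ext fun p q h => ?_
    simp [e, Groth.L00.FunctorTotal.totalIso, Groth.L00.FunctorTotal.compX]
  have hn' : mapBifunctorMap a (𝟙 P) (Proj.biF f) (ComplexShape.up ℤ) ≫ (e G').inv =
      (e G).inv ≫ ((DCoh.tensorCx (X := X)).map a).app ((Proj.pullCx f).obj P) := by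
    rw [Iso.eq_inv_comp, ← Category.assoc, Iso.comp_inv_eq]
    exact hn.symm
  refine HomologicalComplex.hom_ext _ _ fun j => ?_
  simp only [HomologicalComplex.comp_f]
  refine (Category.assoc _ _ _).symm.trans ?_
  refine Eq.trans (congrArg (· ≫ _) (map_natural₁ (Proj.biF f) (DCoh.tensorBi (X := Y))
    (Scheme.Modules.pushforward f) (𝟭 Y.Modules) (Scheme.Modules.pushforward f) (fun A N => Proj.β₀ f A N)
    (fun g N => Proj.hβ₁ f g N) P a j)) ?_
  refine (Category.assoc _ _ _).trans ?_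
  refine congrArg (TotalMap.mapX _ _ _ _ _ _ G P j ≫ ·) ?_
  exact ((Scheme.Modules.pushforward f).map_comp _ _).symm.trans
    (congrArg (Scheme.Modules.pushforward f).map (congrArg (fun t => HomologicalComplex.Hom.f t j) hn'))

/-- components of the projection formula on good complexes -/
theorem exists_projection_comp {A B DA DB : Type*} [Category A] [Category B] [Category DA] [Category DB]
    (QA : A ⥤ DA) (QB : B ⥤ DB) (push : A ⥤ B) (T : B ⥤ B) (T' : A ⥤ A) (R : DA ⥤ DB) (M : DB ⥤ DB) (M' : DA ⥤ DA)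
    (a : QB ⋙ M ≅ T ⋙ QB) (a' : QA ⋙ M' ≅ T' ⋙ QA) (pr : push ⋙ T ⟶ T' ⋙ push)
    (pc : push ⋙ QB ⟶ QA ⋙ R) (good : A → Prop) (hpc : ∀ I, good I → IsIso (pc.app I)) :
    ∃ c : ∀ I, good I → ((R ⋙ M).obj (QA.obj I) ⟶ (M' ⋙ R).obj (QA.obj I)),
      (∀ {I J : A} (hI : good I) (hJ : good J) (m : I ⟶ J),
        (R ⋙ M).map (QA.map m) ≫ c J hJ = c I hI ≫ (M' ⋙ R).map (QA.map m)) ∧
      ∀ I (hI : good I), IsIso (QB.map (pr.app I) ≫ pc.app (T'.obj I)) → IsIso (c I hI) := by
  refine ⟨fun I hI => haveI := hpc I hI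
    M.map (inv (pc.app I)) ≫ a.hom.app (push.obj I) ≫ (QB.map (pr.app I) ≫ pc.app (T'.obj I)) ≫ R.map (a'.inv.app I),
    fun {I J} hI hJ m => ?_, fun I hI h => ?_⟩
  · haveI := hpc I hI
    haveI := hpc J hJ
    have h1 : M.map (R.map (QA.map m)) ≫ M.map (inv (pc.app J)) = M.map (inv (pc.app I)) ≫ M.map (QB.map (push.map m)) := by
      have := pc.naturality m
      simp only [Functor.comp_map] at this
      rw [← M.map_comp, ← M.map_comp]
      refine congrArg M.map ((IsIso.comp_inv_eq _).2 ?_)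
      rw [Category.assoc]
      exact ((IsIso.eq_inv_comp _).2 this.symm)
    have h2 : M.map (QB.map (push.map m)) ≫ a.hom.app (push.obj J) = a.hom.app (push.obj I) ≫ QB.map (T.map (push.map m)) :=
      a.hom.naturality (push.map m)
    have h3 : QB.map (T.map (push.map m)) ≫ QB.map (pr.app J) = QB.map (pr.app I) ≫ QB.map (push.map (T'.map m)) :=
      (QB.map_comp _ _).symm.trans ((congrArg QB.map (pr.naturality m)).trans (QB.map_comp _ _))
    have h4 : QB.map (push.map (T'.map m)) ≫ pc.app (T'.obj J) = pc.app (T'.obj I) ≫ R.map (QA.map (T'.map m)) :=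
      pc.naturality (T'.map m)
    have h5 : R.map (QA.map (T'.map m)) ≫ R.map (a'.inv.app J) = R.map (a'.inv.app I) ≫ R.map (M'.map (QA.map m)) :=
      (R.map_comp _ _).symm.trans ((congrArg R.map (a'.inv.naturality m)).trans (R.map_comp _ _))
    simp only [Functor.comp_map, Category.assoc]
    rw [reassoc_of% h1, reassoc_of% h2, reassoc_of% h3, reassoc_of% h4, h5]
  · haveI := hpc I hI
    haveI := h
    infer_instance

set_option maxHeartbeats 800000 in
/-- the projection formula `Rf_*(-) ⊗^L P ⟶ Rf_*(- ⊗^L f^*P)`, invertible on quasi-coherent objects -/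
theorem exists_projection (f : X ⟶ Y) [QuasiCompact f] [QuasiSeparated f] [DCoh.HasRpush f]
    (P : CochainComplex Y.Modules ℤ) (hP : DCoh.IsKFlat P) (hq : DCoh.IsQCohD (DCoh.toD Y P))
    [DCoh.HasLTensorCx P] [DCoh.HasLTensorCx ((Proj.pullCx f).obj P)] :
    ∃ τ : DCoh.Rpush f ⋙ DCoh.LTensorCx P ⟶ DCoh.LTensorCx ((Proj.pullCx f).obj P) ⋙ DCoh.Rpush f,
      ∀ E : DCoh.D X, DCoh.IsQCohD E → IsIso (τ.app E) := by
  haveI := Groth.L17.PushQCoh.additive_push f
  let pr : Proj.pushCx f ⋙ (DCoh.tensorCx (X := Y)).flip.obj P ⟶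
      (DCoh.tensorCx (X := X)).flip.obj ((Proj.pullCx f).obj P) ⋙ Proj.pushCx f :=
    { app := fun G => Proj.proj f G P
      naturality := fun G G' a => proj_natural₁ f a P }
  let pc : Proj.pushCx f ⋙ DerivedCategory.Q ⟶ DerivedCategory.Q ⋙ DCoh.Rpush f :=
    { app := fun J => SupportAdj.pushComp f J
      naturality := fun _ _ a => SupportAdj.pushComp_natural f a }
  obtain ⟨c, hc, hiso⟩ := exists_projection_comp DerivedCategory.Q DerivedCategory.Q (Proj.pushCx f)
    ((DCoh.tensorCx (X := Y)).flip.obj P) ((DCoh.tensorCx (X := X)).flip.obj ((Proj.pullCx f).obj P))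
    (DCoh.Rpush f) (DCoh.LTensorCx P) (DCoh.LTensorCx ((Proj.pullCx f).obj P)) (Assoc.allIso P hP)
    (Assoc.allIso ((Proj.pullCx f).obj P) (Groth.L00.KFlat.pullback_kflat f P hP)) pr pc
    (fun I => I.IsKInjective) (fun I hI => haveI := hI; SupportAdj.isIso_pushComp f I)
  have hrep : ∀ E : DCoh.D X, ∃ I : CochainComplex X.Modules ℤ, I.IsKInjective ∧
      Nonempty (DerivedCategory.Q.obj I ≅ E) := fun E => by
    obtain ⟨I, i, hI, hi⟩ := ProjFormulaD.exists_kinj (DerivedCategory.Q.objPreimage E)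
    haveI := (DerivedCategory.isIso_Q_map_iff_quasiIso _ i).2 hi
    exact ⟨I, hI, ⟨(asIso (DerivedCategory.Q.map i)).symm ≪≫ DerivedCategory.Q.objObjPreimageIso E⟩⟩
  obtain ⟨τ, hτ⟩ := exists_natTrans_of_reps DerivedCategory.Q (DCoh.Rpush f ⋙ DCoh.LTensorCx P)
    (DCoh.LTensorCx ((Proj.pullCx f).obj P) ⋙ DCoh.Rpush f) (fun I => I.IsKInjective) hrep
    (fun {_ J} hJ d => haveI : J.IsKInjective := hJ; PFNat.exists_map d) c hc
  refine ⟨τ, fun E hE => ?_⟩
  obtain ⟨I, hI, ⟨e⟩⟩ := hrep E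
  refine (NatTrans.isIso_app_iff_of_iso τ e).1 ?_
  rw [hτ I hI]
  refine hiso I hI ?_
  haveI := hI
  change IsIso (DerivedCategory.Q.map (Proj.proj f I P) ≫ SupportAdj.pushComp f (ProjQis.T f I P))
  obtain ⟨J, r, hJ, hr⟩ := ProjFormulaD.exists_kinj (ProjQis.T f I P)
  haveI : J.IsKInjective := hJ
  haveI : QuasiIso r := hr
  haveI : IsIso (DerivedCategory.Q.map r) := (DerivedCategory.isIso_Q_map_iff_quasiIso _ _).2 hr
  haveI := ProjQC.isIso_cmp f I (isQCohD_of_iso e.symm hE) hP hq r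
  haveI := SupportAdj.isIso_pushComp f J
  have h : (DerivedCategory.Q.map (Proj.proj f I P) ≫ SupportAdj.pushComp f (ProjQis.T f I P)) ≫
      (DCoh.Rpush f).map (DerivedCategory.Q.map r) =
      DerivedCategory.Q.map (ProjQis.cmp f I P r) ≫ SupportAdj.pushComp f J := by
    rw [Category.assoc, ← SupportAdj.pushComp_natural f r, Functor.map_comp DerivedCategory.Q, Category.assoc]
  haveI : IsIso ((DerivedCategory.Q.map (Proj.proj f I P) ≫ SupportAdj.pushComp f (ProjQis.T f I P)) ≫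
      (DCoh.Rpush f).map (DerivedCategory.Q.map r)) := by rw [h]; infer_instance
  exact IsIso.of_isIso_comp_right _ ((DCoh.Rpush f).map (DerivedCategory.Q.map r))

end Groth.L10.FMBC
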