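import Groth.Agent.L10.FMBC.ModKernel
import Groth.Agent.L26.AbDual.Bilinear

/-!
The Poincaré bundle under translations.
-/

set_option autoImplicit false
set_option linter.unusedSectionVars false
set_option linter.style.haveILetI false
set_option backward.defeqAttrib.useBackward true
set_option backward.isDefEq.respectTransparency false
set_option backward.isDefEq.respectTransparency.types false

universe u

open CategoryTheory CategoryTheory.Limits MonoidalCategory CartesianMonoidalCategory MonObj GrpObj AlgebraicGeometry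
open Groth.Agent.AbDualLib

namespace Groth.L10.FMBC

variable {S : Scheme.{u}} {A At : Over S} [GrpObj A] [GrpObj At]
  {φ : ∀ T : Over S, PicF.Cl (PicF.XT A.hom T) → (T ⟶ At)}
  [IsLocallyNoetherian S] [IsProper A.hom] [Smooth A.hom] [GeometricallyConnected A.hom]

theorem bil_id (ξ : PicF.Cl (A ⊗ At).left) : bil ξ (fst A At) (snd A At) = ξ := by
  rw [bil, lift_fst_snd, Over.id_left]
  exact PicLoc.pullCl_id _

theorem bil_cl (P : (A ⊗ At).left.Modules) {T : Over S} (a : T ⟶ A) (b : T ⟶ At) :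
    bil (PicF.cl P) a b = PicF.cl ((Scheme.Modules.pullback (lift a b).left).obj P) := rfl

/-- translating the dual variable -/
theorem nonempty_translate_dual (hA : AbDual.IsDualAV Scheme.fppfPrecoverage A At φ)
    (P : (A ⊗ At).left.Modules) (hξ : AbDual.IsPoincareCl A At φ (PicF.cl P)) (x : 𝟙_ (Over S) ⟶ At) :
    Nonempty ((Scheme.Modules.pullback (lift (fst A At) (snd A At ≫ (𝟙 At * (toUnit At ≫ x)))).left).obj P ≅
      CohB1.tensorMod ((Scheme.Modules.pullback (fst A At).left).obj
        ((Scheme.Modules.pullback (lift (𝟙 A) (toUnit A ≫ x)).left).obj P)) P) := by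
  refine (PicGrp.cl_eq_cl_iff _ _).1 ?_
  rw [← bil_cl, MonObj.comp_mul, Category.comp_id, bil_mul_right hA hξ, bil_id, Groth.Agent.AbDualLib.mulCl_comm]
  have h : bil (PicF.cl P) (fst A At) (snd A At ≫ toUnit At ≫ x) =
      PicF.pullCl (fst A At).left (bil (PicF.cl P) (𝟙 A) (toUnit A ≫ x)) := by
    rw [pullCl_bil, Category.comp_id, ← Category.assoc, ← Category.assoc, toUnit_unique (snd A At ≫ toUnit At)
      (fst A At ≫ toUnit A)]
  exact congrArg (fun c => PicGrp.mulCl c (PicF.cl P)) h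

/-- translating the variable of the abelian scheme -/
theorem nonempty_translate (hA : AbDual.IsDualAV Scheme.fppfPrecoverage A At φ)
    (P : (A ⊗ At).left.Modules) (hξ : AbDual.IsPoincareCl A At φ (PicF.cl P)) (x : 𝟙_ (Over S) ⟶ A) :
    Nonempty (P ≅ (Scheme.Modules.pullback (lift (fst A At ≫ (𝟙 A * (toUnit A ≫ x))) (snd A At)).left).obj
      (CohB1.tensorMod P ((Scheme.Modules.pullback (snd A At).left).obj
        ((Scheme.Modules.pullback (lift (toUnit At ≫ x⁻¹) (𝟙 At)).left).obj P)))) := by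
  refine (PicGrp.cl_eq_cl_iff _ _).1 ?_
  let u := lift (fst A At ≫ (𝟙 A * (toUnit A ≫ x))) (snd A At)
  change _ = PicF.pullCl u.left (PicGrp.mulCl (PicF.cl P)
    (PicF.pullCl (snd A At).left (bil (PicF.cl P) (toUnit At ≫ x⁻¹) (𝟙 At))))
  rw [pullCl_mulCl, pullCl_left_comp, pullCl_bil, lift_snd, Category.comp_id]
  have hu : PicF.pullCl u.left (PicF.cl P) = bil (PicF.cl P) (fst A At ≫ (𝟙 A * (toUnit A ≫ x))) (snd A At) := rfl
  rw [hu]
  refine Eq.trans ?_ (bil_mul_left hA hξ _ _ _)
  refine (bil_id (PicF.cl P)).symm.trans (congrArg (fun a => bil (PicF.cl P) a (snd A At)) ?_)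
  rw [MonObj.comp_mul, Category.comp_id, _root_.mul_assoc, ← Category.assoc, ← Category.assoc,
    toUnit_unique (fst A At ≫ toUnit A) (toUnit (A ⊗ At)), toUnit_unique (snd A At ≫ toUnit At) (toUnit (A ⊗ At)),
    ← MonObj.comp_mul, mul_inv_cancel, MonObj.comp_one, _root_.mul_one]

omit [IsLocallyNoetherian S] [IsProper A.hom] [Smooth A.hom] [GeometricallyConnected A.hom] in
theorem isIso_translation (x : 𝟙_ (Over S) ⟶ A) : IsIso (𝟙 A * (toUnit A ≫ x)) := by
  refine ⟨⟨𝟙 A * (toUnit A ≫ x⁻¹), ?_, ?_⟩⟩ <;>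
  · rw [MonObj.comp_mul, Category.comp_id, ← Category.assoc, toUnit_unique (_ ≫ toUnit A) (toUnit A), _root_.mul_assoc,
      ← MonObj.comp_mul]
    simp [MonObj.comp_one]

end Groth.L10.FMBC
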