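import Groth.Agent.L10.FMBC.Translate

/-!
The Poincaré bundles along a homomorphism and its transpose.
-/

set_option autoImplicit false
set_option linter.style.haveILetI false
set_option linter.unusedSectionVars false
set_option backward.defeqAttrib.useBackward true
set_option backward.isDefEq.respectTransparency false
set_option backward.isDefEq.respectTransparency.types false

universe u

open CategoryTheory CategoryTheory.Limits MonoidalCategory CartesianMonoidalCategory MonObj GrpObj AlgebraicGeometry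
open Groth.Agent.AbDualLib

namespace Groth.L10.FMBC

variable {S : Scheme.{u}} {A At B Bt : Over S} [GrpObj A] [GrpObj At] [GrpObj B] [GrpObj Bt]
  {φA : ∀ T : Over S, PicF.Cl (PicF.XT A.hom T) → (T ⟶ At)}
  {φB : ∀ T : Over S, PicF.Cl (PicF.XT B.hom T) → (T ⟶ Bt)}
  [IsLocallyNoetherian S] [IsProper A.hom] [Smooth A.hom] [GeometricallyConnected A.hom]

/-- `(f × 1)^* P_B ≅ (1 × f^t)^* P_A` -/
theorem nonempty_transpose (hA : AbDual.IsDualAV Scheme.fppfPrecoverage A At φA) (f : A ⟶ B) [IsMonHom f]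
    (ft : Bt ⟶ At) (hft : AbDual.IsTranspose f φA φB ft)
    (PA : (A ⊗ At).left.Modules) (hPA : AbDual.IsPoincareCl A At φA (PicF.cl PA))
    (PB : (B ⊗ Bt).left.Modules) (hPB : AbDual.IsPoincareCl B Bt φB (PicF.cl PB)) :
    Nonempty ((Scheme.Modules.pullback (f ▷ Bt).left).obj PB ≅ (Scheme.Modules.pullback (A ◁ ft).left).obj PA) := by
  refine (PicGrp.cl_eq_cl_iff _ _).1 ?_
  have h : PicF.pullCl (AbDual.bcMap f Bt) (PicF.cl PB) = PicF.pullCl (PicF.XTmap A.hom ft) (PicF.cl PA) := by
    refine eq_of_map_eq hA (isPicZeroCl_bcMap f Bt hPB.1) (isPicZeroCl_XTmap _ _ hPA.1) ?_ ?_ ?_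
    · refine Eq.trans ?_ hPB.2.2
      rw [← PicLoc.pullCl_comp, secT_eq_lift, secT_eq_lift, bcMap_eq_whiskerRight, ← Over.comp_left]
      refine congrArg (fun m => PicF.pullCl m (PicF.cl PB)) (congrArg CommaMorphism.left ?_)
      apply CartesianMonoidalCategory.hom_ext <;> simp [IsMonHom.one_hom]
    · exact rig_pullCl ft _ ((congrArg _ hPA.2.2).trans (pullCl_oneCl _))
    · rw [hft Bt _ hPB.1, hPB.2.1, hA.relPic.natural At Bt ft _ hPA.1, hPA.2.1]
      exact (Category.id_comp _).trans (Category.comp_id _).symm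
  rw [bcMap_eq_whiskerRight, XTmap_eq_whiskerLeft] at h
  exact h

end Groth.L10.FMBC
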